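import Groth.Agent.AbSch.K453.HomShEx
import Groth.Agent.CGrpSh.K731.Full
import Groth.Agent.Sga3B.DSPts
import Groth.Prelude.Def_CGrpSh2

/-!
# Restriction of abelian sheaves to the big site of an object, and sheaves of points

`K` a precoverage, `Y : Over S`.
* `res K Y : Sheaf ((QuotSh.J K S).over Y) Ab ⥤ BigSite.Ab K Y.left`, an additive equivalence;
* `restr K Y : BigSite.Ab K S ⥤ BigSite.Ab K Y.left`;
* `ptsIso K Y G : (restr K Y).obj (pts K G) ≅ pts K (Red.bc Y.hom G)`, natural for homomorphisms (`ptsMap_bc`);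
* `homEquiv`: morphisms `(pts K G).over Y ⟶ (pts K H).over Y` ≃+ morphisms of the sheaves of points of the base changes;
* `isZero_homSh_pts`: `𝓗om(pts G, pts H) = 0` if all homomorphisms `G_T ⟶ H_T` are trivial, all `T`.
-/

set_option autoImplicit false
universe u
open CategoryTheory CategoryTheory.Limits MonoidalCategory CartesianMonoidalCategory MonObj AlgebraicGeometry
open CGrpSh Opposite

noncomputable section

namespace K453.Slice

open K453.SheafEx K453.HomShEx Groth.Agent.Sga3B.DSPts

variable (K : Precoverage Scheme.{u}) {S : Scheme.{u}} (Y : Over S)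

/-- Restriction to the big site of `Y.left`, an equivalence. -/
abbrev res : Sheaf ((QuotSh.J K S).over Y) AddCommGrpCat.{u + 1} ⥤ BigSite.Ab K Y.left :=
  Y.iteratedSliceBackward.sheafPushforwardContinuous AddCommGrpCat.{u + 1}
        (QuotSh.J K Y.left) ((QuotSh.J K S).over Y)

instance isDenseSubsite_slice : Y.iteratedSliceBackward.IsDenseSubsite (QuotSh.J K Y.left)
    ((QuotSh.J K S).over Y) :=
  inferInstanceAs (Y.iteratedSliceEquiv.inverse.IsDenseSubsite ((K.toGrothendieck).over Y.left)
    (((K.toGrothendieck).over S).over Y))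

instance isEquivalence_res : (res K Y).IsEquivalence := by
  infer_instance

instance additive_res : (res K Y).Additive where

/-- Restriction of abelian sheaves on the big site of `S` to the big site of `Y.left`. -/
abbrev restr : BigSite.Ab K S ⥤ BigSite.Ab K Y.left :=
  (QuotSh.J K S).overPullback AddCommGrpCat.{u + 1} Y ⋙ res K Y

theorem shortExact_res {E : ShortComplex (Sheaf ((QuotSh.J K S).over Y) AddCommGrpCat.{u + 1})}
    (hE : E.ShortExact) : (E.map (res K Y)).ShortExact :=
  hE.map_of_exact _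

theorem shortExact_restr {E : ShortComplex (BigSite.Ab K S)} (hE : E.ShortExact) :
    (E.map (restr K Y)).ShortExact :=
  shortExact_res K Y (shortExact_over Y hE)

section Pts

variable [(QuotSh.J K S).Subcanonical] [(QuotSh.J K Y.left).Subcanonical]

section One

variable (G : Over S) [GrpObj G] [IsCommMonObj G]

/-- on sections -/
def ptsIsoApp (T : (Over Y.left)ᵒᵖ) : ((restr K Y).obj (pts K G)).obj.obj T ≅ (pts K (Red.bc Y.hom G)).obj.obj T :=
  AddEquiv.toAddCommGrpIso
    { toFun := fun x => ULift.up (Additive.ofMul (bcEquiv Y.hom T.unop G x.down.toMul))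
      invFun := fun y => ULift.up (Additive.ofMul ((bcEquiv Y.hom T.unop G).symm y.down.toMul))
      left_inv := fun x => by
        apply ULift.ext
        change Additive.ofMul ((bcEquiv Y.hom T.unop G).symm (bcEquiv Y.hom T.unop G x.down.toMul)) = _
        rw [MulEquiv.symm_apply_apply]
        rfl
      right_inv := fun x => by
        apply ULift.ext
        change Additive.ofMul (bcEquiv Y.hom T.unop G ((bcEquiv Y.hom T.unop G).symm x.down.toMul)) = _
        rw [MulEquiv.apply_symm_apply]
        rfl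
      map_add' := fun x y => by
        apply ULift.ext
        exact congrArg Additive.ofMul (map_mul (bcEquiv Y.hom T.unop G) x.down.toMul y.down.toMul) }

/-- The restriction of the sheaf of points of `G` is the sheaf of points of the base change. -/
def ptsIso : (restr K Y).obj (pts K G) ≅ pts K (Red.bc Y.hom G) :=
  (fullyFaithfulSheafToPresheaf _ _).preimageIso
    (NatIso.ofComponents (ptsIsoApp K Y G) (fun {T T'} f => AddCommGrpCat.ext fun x => by
      apply ULift.ext
      change Additive.ofMul (bcEquiv Y.hom T'.unop G ((Over.map Y.hom).map f.unop ≫ x.down.toMul)) =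
        Additive.ofMul (f.unop ≫ bcEquiv Y.hom T.unop G x.down.toMul)
      rw [bcEquiv_naturality]))

theorem ptsIso_hom_app (T : (Over Y.left)ᵒᵖ) (x : ((restr K Y).obj (pts K G)).obj.obj T) :
    (ptsIso K Y G).hom.hom.app T x = ULift.up (Additive.ofMul (bcEquiv Y.hom T.unop G x.down.toMul)) := rfl

end One

variable {G H : Over S} [GrpObj G] [IsCommMonObj G] [GrpObj H] [IsCommMonObj H]

theorem ptsMap_bc (φ : G ⟶ H) [IsMonHom φ] :
    (restr K Y).map (ptsMap K φ) ≫ (ptsIso K Y H).hom = (ptsIso K Y G).hom ≫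
      ptsMap K (G := Red.bc Y.hom G) (H := Red.bc Y.hom H) ((Over.pullback Y.hom).map φ) := by
  apply Sheaf.hom_ext
  ext T x
  apply ULift.ext
  change Additive.ofMul (bcEquiv Y.hom T.unop H (x.down.toMul ≫ φ)) =
    Additive.ofMul (bcEquiv Y.hom T.unop G x.down.toMul ≫ (Over.pullback Y.hom).map φ)
  rw [bcEquiv_comp]

/-- The homomorphism of group schemes over `Y` attached to a morphism of the restricted sheaves of points. -/
def homBC (φ : (pts K G).over Y ⟶ (pts K H).over Y) : Red.bc Y.hom G ⟶ Red.bc Y.hom H :=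
  K731.Full.hom (K := K) ((ptsIso K Y G).inv ≫ (res K Y).map φ ≫ (ptsIso K Y H).hom)

instance isMonHom_homBC (φ : (pts K G).over Y ⟶ (pts K H).over Y) : IsMonHom (homBC K Y φ) :=
  K731.Full.isMonHom_hom _

theorem ptsMap_homBC (φ : (pts K G).over Y ⟶ (pts K H).over Y) :
    ptsMap K (homBC K Y φ) = (ptsIso K Y G).inv ≫ (res K Y).map φ ≫ (ptsIso K Y H).hom :=
  K731.Full.ptsMap_hom _

theorem res_map_eq (φ : (pts K G).over Y ⟶ (pts K H).over Y) :
    (res K Y).map φ = (ptsIso K Y G).hom ≫ ptsMap K (homBC K Y φ) ≫ (ptsIso K Y H).inv := by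
  rw [ptsMap_homBC]
  simp

/-- every homomorphism over `Y` comes from a morphism of the restricted sheaves -/
theorem exists_over (ψ : Red.bc Y.hom G ⟶ Red.bc Y.hom H) [IsMonHom ψ] :
    ∃ φ : (pts K G).over Y ⟶ (pts K H).over Y, homBC K Y φ = ψ := by
  refine ⟨(res K Y).preimage ((ptsIso K Y G).hom ≫ ptsMap K ψ ≫ (ptsIso K Y H).inv), ?_⟩
  unfold homBC
  rw [Functor.map_preimage]
  simp only [Category.assoc, Iso.inv_hom_id, Category.comp_id, Iso.inv_hom_id_assoc]
  exact K731.Full.hom_ptsMap ψ

theorem eq_of_homBC_eq {φ ψ : (pts K G).over Y ⟶ (pts K H).over Y} (h : homBC K Y φ = homBC K Y ψ) : φ = ψ := by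
  apply (res K Y).map_injective
  rw [res_map_eq, res_map_eq]
  congr 2
  apply Sheaf.hom_ext
  ext T x
  apply ULift.ext
  change Additive.ofMul (x.down.toMul ≫ homBC K Y φ) = Additive.ofMul (x.down.toMul ≫ homBC K Y ψ)
  rw [h]

theorem eq_zero_of_homBC_eq_one {φ : (pts K G).over Y ⟶ (pts K H).over Y} (h : homBC K Y φ = 1) : φ = 0 := by
  apply (res K Y).map_injective
  rw [res_map_eq, Functor.map_zero]
  have : ptsMap K (homBC K Y φ) = 0 := by
    apply Sheaf.hom_ext
    ext T x
    apply ULift.ext
    change Additive.ofMul (x.down.toMul ≫ homBC K Y φ) = 0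
    rw [h, MonObj.comp_one]
    rfl
  rw [this, zero_comp, comp_zero]

end Pts

section HomZero

variable [∀ T : Scheme.{u}, (QuotSh.J K T).Subcanonical]

/-- `𝓗om(pts G, pts H) = 0` if all homomorphisms `G_T ⟶ H_T` are trivial -/
theorem isZero_homSh_pts (G H : Over S) [GrpObj G] [IsCommMonObj G] [GrpObj H] [IsCommMonObj H]
    (h : ∀ (T : Scheme.{u}) (t : T ⟶ S) (ψ : Red.bc t G ⟶ Red.bc t H) [IsMonHom ψ], ψ = 1) :
    IsZero (HomSh.homSh (QuotSh.J K S) (pts K G) (pts K H)) := by
  refine (isZero_homSh_iff _ _).mpr fun Y φ => ?_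
  exact eq_zero_of_homBC_eq_one K Y (h Y.left Y.hom (homBC K Y φ))

end HomZero

end K453.Slice
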