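import Groth.Agent.AbSch.K453.Slice
import Groth.Agent.AbSch.K452.TorusRig
import Groth.Agent.AbSch.K449.AffFac
import Groth.Agent.AbSch.K449.Push
import Groth.Agent.AbSch.K448.SmoothConn

/-!
# Vanishing of homomorphisms between tori and abelian schemes

* `geometricallyConnected`: a group scheme locally of finite type with connected fibres has geometrically connected fibres;
* `hom_eq_one_of_isAffineHom`: homomorphisms from an abelian scheme to an affine group scheme are trivial;
* `isZero_homSh_torus_av`, `isZero_homSh_av_torus`, `isZero_homSh_av_affine`: the internal Hom sheaves vanish.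
-/

set_option autoImplicit false
universe u
open CategoryTheory CategoryTheory.Limits MonoidalCategory CartesianMonoidalCategory MonObj AlgebraicGeometry
open CGrpSh Opposite

namespace K453.HomVanish

variable {S : Scheme.{u}}

/-- A group scheme locally of finite type with connected fibres has geometrically connected fibres. -/
theorem geometricallyConnected (A : Over S) [GrpObj A] [LocallyOfFiniteType A.hom]
    (hA : ∀ s : S, ConnectedSpace ↥(A.hom.fiber s)) : GeometricallyConnected A.hom := by
  have h0 : GrpObj (Over.mk A.hom) := inferInstanceAs (GrpObj A)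
  have h1 : GeometricallyIrreducible A.hom := by
    refine Groth.Agent.Sga3C.GrpIrr.geometricallyIrreducible_of_connected_fibres A.hom fun s => ?_
    have := hA s
    have h2 := (A.hom.fiberHomeo s).surjective.connectedSpace (A.hom.fiberHomeo s).continuous
    exact isConnected_iff_connectedSpace.mpr h2
  refine ⟨fun k _ y Z fst snd h => ?_⟩
  have h3 := GeometricallyIrreducible.geometrically_irreducibleSpace (f := A.hom) y fst snd h
  infer_instance

/-- Homomorphisms from an abelian scheme to a group scheme affine over the base are trivial. -/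
theorem hom_eq_one_of_isAffineHom {A T : Over S} [GrpObj A] [GrpObj T] [Smooth A.hom] [IsProper A.hom]
    [GeometricallyConnected A.hom] [IsAffineHom T.hom] (f : A ⟶ T) [IsMonHom f] : f = 1 := by
  have h1 := K448.SmoothConn.geometricallyReduced A.hom
  have he : (η[A] : 𝟙_ (Over S) ⟶ A).left ≫ A.hom = 𝟙 S := Over.w _
  have h2 := K449.AffFac.eq_of_isAffineHom A.hom (K449.Push.isIso_app A) (η[A] : 𝟙_ (Over S) ⟶ A).left he
    T.hom f.left (Over.w f)
  have h3 : f = toUnit A ≫ η[A] ≫ f := by
    apply Over.OverMorphism.ext
    exact h2
  rw [h3, IsMonHom.one_hom, Hom.one_def]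

section Sheaf

variable (K : Precoverage Scheme.{u}) [∀ T : Scheme.{u}, (QuotSh.J K T).Subcanonical]

theorem isZero_homSh_torus_av (T A : Over S) [GrpObj T] [IsCommMonObj T] (hT : Red.IsTorus T)
    [GrpObj A] [IsCommMonObj A] [IsProper A.hom] :
    IsZero (HomSh.homSh (QuotSh.J K S) (pts K T) (pts K A)) := by
  refine Slice.isZero_homSh_pts K T A fun Y t ψ _ => ?_
  have hA : IsProper (Red.bc t A).hom := by
    change IsProper (pullback.snd A.hom t)
    infer_instance
  exact K452.TorusRig.hom_eq_one (Groth.Agent.Sga3B.TorusBc.isTorus_bc t hT) ψ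

theorem isZero_homSh_av_affine (A T : Over S) [GrpObj A] [IsCommMonObj A] [Smooth A.hom] [IsProper A.hom]
    [GeometricallyConnected A.hom] [GrpObj T] [IsCommMonObj T] [IsAffineHom T.hom] :
    IsZero (HomSh.homSh (QuotSh.J K S) (pts K A) (pts K T)) := by
  refine Slice.isZero_homSh_pts K A T fun Y t ψ _ => ?_
  have h1 : IsProper (Red.bc t A).hom := by
    change IsProper (pullback.snd A.hom t)
    infer_instance
  have h2 : Smooth (Red.bc t A).hom := by
    change Smooth (pullback.snd A.hom t)
    infer_instance
  have h3 : GeometricallyConnected (Red.bc t A).hom := by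
    change GeometricallyConnected (pullback.snd A.hom t)
    infer_instance
  have h4 : IsAffineHom (Red.bc t T).hom := by
    change IsAffineHom (pullback.snd T.hom t)
    exact MorphismProperty.pullback_snd _ _ inferInstance
  exact hom_eq_one_of_isAffineHom ψ

theorem isZero_homSh_av_torus (A T : Over S) [GrpObj A] [IsCommMonObj A] [Smooth A.hom] [IsProper A.hom]
    [GeometricallyConnected A.hom] [GrpObj T] [IsCommMonObj T] (hT : Red.IsTorus T) :
    IsZero (HomSh.homSh (QuotSh.J K S) (pts K A) (pts K T)) := by
  have := Groth.Agent.Sga3B.TorusAlgClosed.isAffineHom_of_isTorus hT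
  exact isZero_homSh_av_affine K A T

end Sheaf

end K453.HomVanish
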