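import Mathlib.Algebra.Homology.DerivedCategory.Ext.ExactSequences
import Mathlib.Algebra.Homology.DerivedCategory.Ext.EnoughInjectives
import Mathlib.Algebra.Homology.DerivedCategory.Ext.Map

/-!
# `Ext¹` computed with one injective embedding; extensions

`S : 0 → G → I → Q → 0` short exact with `I` injective.
* `conn : (F ⟶ Q) →+ Ext¹(F, G)`, surjective (`conn_surjective`), with kernel the image of `F ⟶ I` (`conn_eq_zero_iff`);
* `lift d : Ext¹(F, G) →+ M` for `d : (F ⟶ Q) →+ M` killing the maps which lift to `I`; `lift_conn`, `lift_map`;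
* `pb φ`: the extension pulled back along `φ : F ⟶ Q`; `extClass_pb`;
* `exists_extension`: every class in `Ext¹(F, G)` is the class of an extension;
* `extClass_eq_zero_iff`: the class of an extension is zero iff it is split.
-/

set_option autoImplicit false

open CategoryTheory CategoryTheory.Limits CategoryTheory.Abelian

noncomputable section

namespace K453.ExtLift

universe w w' v₁ v₂ u₁ u₂

variable {A : Type u₁} [Category.{v₁} A] [Abelian A] [HasExt.{w} A]

section

variable {S : ShortComplex A} (hS : S.ShortExact) (F : A)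

/-- the connecting homomorphism -/
def conn : (F ⟶ S.X₃) →+ Ext.{w} F S.X₁ 1 where
  toFun φ := (Ext.mk₀ φ).comp hS.extClass (zero_add 1)
  map_zero' := by simp
  map_add' φ ψ := by rw [Ext.mk₀_add, Ext.add_comp]

theorem conn_apply (φ : F ⟶ S.X₃) : conn hS F φ = (Ext.mk₀ φ).comp hS.extClass (zero_add 1) := rfl

theorem conn_surjective [Injective S.X₂] : Function.Surjective (conn hS F) := by
  intro e
  obtain ⟨x, hx⟩ := Ext.covariant_sequence_exact₁ F hS e (Ext.eq_zero_of_injective _) (zero_add 1)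
  obtain ⟨φ, rfl⟩ := (Ext.mk₀_bijective _ _).2 x
  exact ⟨φ, hx⟩

theorem conn_eq_zero_iff (φ : F ⟶ S.X₃) : conn hS F φ = 0 ↔ ∃ ψ : F ⟶ S.X₂, ψ ≫ S.g = φ := by
  constructor
  · intro h
    obtain ⟨x, hx⟩ := Ext.covariant_sequence_exact₃ F hS (Ext.mk₀ φ) (zero_add 1) h
    obtain ⟨ψ, rfl⟩ := (Ext.mk₀_bijective _ _).2 x
    refine ⟨ψ, (Ext.mk₀_bijective _ _).1 ?_⟩
    rw [← hx, Ext.mk₀_comp_mk₀]
  · rintro ⟨ψ, rfl⟩
    rw [conn_apply, ← Ext.mk₀_comp_mk₀, Ext.comp_assoc_of_second_deg_zero, hS.comp_extClass, Ext.comp_zero]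

theorem conn_comp_g (ψ : F ⟶ S.X₂) : conn hS F (ψ ≫ S.g) = 0 := (conn_eq_zero_iff hS F _).mpr ⟨ψ, rfl⟩

variable [Injective S.X₂] {M : Type*} [AddCommGroup M] (d : (F ⟶ S.X₃) →+ M)
  (hd : ∀ ψ : F ⟶ S.X₂, d (ψ ≫ S.g) = 0)

omit [Injective S.X₂] in
include hd in
theorem ker_le : (conn hS F).ker ≤ d.ker := by
  intro φ hφ
  obtain ⟨ψ, rfl⟩ := (conn_eq_zero_iff hS F φ).mp hφ
  exact hd ψ

/-- the homomorphism out of `Ext¹` -/
def lift : Ext.{w} F S.X₁ 1 →+ M :=
  (conn hS F).liftOfRightInverse _ (Function.rightInverse_surjInv (conn_surjective hS F)) ⟨d, ker_le hS F d hd⟩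

theorem lift_conn (φ : F ⟶ S.X₃) : lift hS F d hd (conn hS F φ) = d φ :=
  (conn hS F).liftOfRightInverse_comp_apply _ _ ⟨d, ker_le hS F d hd⟩ φ

end

section Split

variable {E : ShortComplex A} (hE : E.ShortExact)

/-- The class of an extension vanishes iff the extension is split. -/
theorem extClass_eq_zero_iff : (hE.extClass : Ext.{w} _ _ 1) = 0 ↔ ∃ s : E.X₃ ⟶ E.X₂, s ≫ E.g = 𝟙 _ := by
  have h := conn_eq_zero_iff hE E.X₃ (𝟙 _)
  rw [conn_apply, Ext.mk₀_id_comp] at h
  exact h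

end Split

section Pb

variable {S : ShortComplex A} (hS : S.ShortExact) {F : A} (φ : F ⟶ S.X₃)

/-- the pulled back extension -/
def pb : ShortComplex A :=
  ShortComplex.mk (pullback.lift S.f 0 (by rw [S.zero, zero_comp]) : S.X₁ ⟶ pullback S.g φ) (pullback.snd S.g φ)
    (pullback.lift_snd _ _ _)

/-- the morphism from the pulled back extension -/
def pbMap : pb φ ⟶ S where
  τ₁ := 𝟙 _
  τ₂ := pullback.fst S.g φ
  τ₃ := φ
  comm₁₂ := by
    change 𝟙 _ ≫ S.f = pullback.lift S.f 0 _ ≫ pullback.fst S.g φ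
    rw [pullback.lift_fst, Category.id_comp]
  comm₂₃ := pullback.condition

omit [HasExt.{w} A] in
include hS in
theorem shortExact_pb : (pb φ).ShortExact := by
  have h1 := hS.mono_f
  have h2 := hS.epi_g
  have h3 : (pb φ).f ≫ pullback.fst S.g φ = S.f := pullback.lift_fst _ _ _
  have m : Mono (pb φ).f := by
    have : Mono ((pb φ).f ≫ pullback.fst S.g φ) := by rw [h3]; exact h1
    exact mono_of_mono _ (pullback.fst S.g φ)
  have e : Epi (pb φ).g := inferInstanceAs (Epi (pullback.snd S.g φ))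
  refine ⟨?_⟩
  rw [ShortComplex.exact_iff_exact_up_to_refinements]
  intro W (x : W ⟶ pullback S.g φ) (hx : x ≫ pullback.snd S.g φ = 0)
  have hx' : (x ≫ pullback.fst S.g φ) ≫ S.g = 0 := by
    rw [Category.assoc, pullback.condition, reassoc_of% hx, zero_comp]
  let l : W ⟶ S.X₁ := hS.exact.lift _ hx'
  have hl : l ≫ S.f = x ≫ pullback.fst S.g φ := hS.exact.lift_f _ hx'
  refine ⟨W, 𝟙 W, inferInstance, l, ?_⟩
  change 𝟙 W ≫ x = l ≫ pullback.lift S.f 0 (by rw [S.zero, zero_comp])
  rw [Category.id_comp]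
  apply pullback.hom_ext
  · rw [Category.assoc, pullback.lift_fst, hl]
  · rw [Category.assoc, pullback.lift_snd, hx, comp_zero]

theorem extClass_pb : ((shortExact_pb hS φ).extClass : Ext.{w} _ _ 1) = conn hS F φ := by
  have h := ShortComplex.ShortExact.extClass_naturality (shortExact_pb hS φ) hS (pbMap φ)
  refine Eq.trans ?_ (h.trans (conn_apply hS F φ).symm)
  exact (Ext.comp_mk₀_id _).symm

end Pb

/-- Every class in `Ext¹(F, G)` is the class of an extension. -/
theorem exists_extension [EnoughInjectives A] {F G : A} (e : Ext.{w} F G 1) :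
    ∃ (E : A) (i : G ⟶ E) (p : E ⟶ F) (w : i ≫ p = 0) (h : (ShortComplex.mk i p w).ShortExact),
      (h.extClass : Ext.{w} F G 1) = e := by
  let I : InjectivePresentation G := Classical.arbitrary _
  let S := ShortComplex.mk _ _ (cokernel.condition I.f)
  have hS : S.ShortExact := { exact := ShortComplex.exact_cokernel I.f }
  have : Injective S.X₂ := I.injective
  obtain ⟨φ, hφ⟩ := conn_surjective hS F e
  exact ⟨_, _, _, _, shortExact_pb hS φ, (extClass_pb hS φ).trans hφ⟩

section Map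

variable {B : Type u₂} [Category.{v₂} B] [Abelian B] [HasExt.{w'} B] (R : A ⥤ B) [R.Additive]
  [PreservesFiniteLimits R] [PreservesFiniteColimits R]
  {S : ShortComplex A} (hS : S.ShortExact) (F : A)

theorem map_conn (φ : F ⟶ S.X₃) :
    (conn hS F φ).mapExactFunctor R = conn (hS.map_of_exact R) (R.obj F) (R.map φ) := by
  rw [conn_apply, conn_apply, Ext.mapExactFunctor_comp, Ext.mapExactFunctor_mk₀, Ext.mapExactFunctor_extClass]
  rfl

/-- A fully faithful exact functor is injective on `Ext¹`. -/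
theorem eq_zero_of_map [R.Full] [R.Faithful] [EnoughInjectives A] {F G : A} (e : Ext.{w} F G 1)
    (h : (e.mapExactFunctor R : Ext.{w'} _ _ 1) = 0) : e = 0 := by
  obtain ⟨E, i, p, w, hE, rfl⟩ := exists_extension e
  rw [Ext.mapExactFunctor_extClass] at h
  obtain ⟨s, hs⟩ := (extClass_eq_zero_iff (hE.map_of_exact R)).mp h
  refine (extClass_eq_zero_iff hE).mpr ⟨R.preimage s, R.map_injective ?_⟩
  rw [R.map_comp, R.map_preimage, R.map_id]
  exact hs

/-- pre- and postcomposition with isomorphisms on `Ext¹` -/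
def conj {F F' G G' : A} (a : F' ≅ F) (b : G ≅ G') : Ext.{w} F G 1 →+ Ext.{w} F' G' 1 where
  toFun e := (Ext.mk₀ a.hom).comp (e.comp (Ext.mk₀ b.hom) (add_zero 1)) (zero_add 1)
  map_zero' := by simp
  map_add' x y := by simp

theorem conj_injective {F F' G G' : A} (a : F' ≅ F) (b : G ≅ G') : Function.Injective (conj (A := A) a b) := by
  intro x y h
  have key : ∀ z : Ext.{w} F G 1, conj a.symm b.symm (conj a b z) = z := by
    intro z
    change (Ext.mk₀ a.inv).comp (((Ext.mk₀ a.hom).comp (z.comp (Ext.mk₀ b.hom) (add_zero 1)) (zero_add 1)).comp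
      (Ext.mk₀ b.inv) (add_zero 1)) (zero_add 1) = z
    rw [Ext.comp_assoc (Ext.mk₀ a.hom) (z.comp (Ext.mk₀ b.hom) (add_zero 1)) (Ext.mk₀ b.inv) (zero_add 1)
      (add_zero 1) (by simp), Ext.mk₀_comp_mk₀_assoc, Iso.inv_hom_id, Ext.mk₀_id_comp,
      Ext.comp_assoc_of_third_deg_zero, Ext.mk₀_comp_mk₀, Iso.hom_inv_id, Ext.comp_mk₀_id]
  rw [← key x, ← key y, h]

end Map

end K453.ExtLift
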