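import Mathlib.CategoryTheory.Sites.Abelian
import Mathlib.CategoryTheory.Sites.EpiMono
import Mathlib.CategoryTheory.Sites.Over
import Mathlib.CategoryTheory.Sites.PreservesLocallyBijective
import Mathlib.Algebra.Homology.ShortComplex.ShortExact
import Mathlib.Algebra.Homology.ShortComplex.Ab
import Mathlib.Algebra.Category.Grp.Abelian
import Mathlib.Algebra.Category.Grp.EpiMono
import Mathlib.Algebra.Category.Grp.FilteredColimits
import Mathlib.CategoryTheory.ConcreteCategory.EpiMono
import Mathlib.CategoryTheory.Abelian.Exact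

/-!
# Exactness of abelian sheaves on a site in terms of local sections

* `exact_iff_locally`, `epi_iff_locally`, `mono_iff_sections`;
* `exists_section`: left exactness on sections.
-/

set_option autoImplicit false
universe w v u

open CategoryTheory CategoryTheory.Limits Opposite

namespace K453.SheafEx

variable {C : Type u} [Category.{v} C] {J : GrothendieckTopology C} [HasSheafify J AddCommGrpCat.{w}]
  [J.WEqualsLocallyBijective AddCommGrpCat.{w}]

omit [J.WEqualsLocallyBijective AddCommGrpCat.{w}] in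
theorem mono_app {F G : Sheaf J AddCommGrpCat.{w}} (f : F ⟶ G) [Mono f] (U : Cᵒᵖ) :
    Function.Injective (f.hom.app U) := by
  have : Mono f.hom := inferInstanceAs (Mono ((sheafToPresheaf J _).map f))
  have : Mono (f.hom.app U) := inferInstanceAs (Mono (((evaluation _ _).obj U).map f.hom))
  exact (AddCommGrpCat.mono_iff_injective _).mp this

omit [J.WEqualsLocallyBijective AddCommGrpCat.{w}] in
theorem mono_iff_sections {F G : Sheaf J AddCommGrpCat.{w}} (f : F ⟶ G) :
    Mono f ↔ ∀ U : C, Function.Injective (f.hom.app (op U)) := by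
  constructor
  · intro _ U
    exact mono_app f (op U)
  · intro h
    have : ∀ U, Mono (f.hom.app U) := fun U => (AddCommGrpCat.mono_iff_injective _).mpr (h U.unop)
    have : Mono f.hom := NatTrans.mono_of_mono_app _
    exact (sheafToPresheaf J _).mono_of_mono_map (inferInstanceAs (Mono f.hom))

/-- local surjectivity in elementary terms -/
theorem epi_iff_locally {F G : Sheaf J AddCommGrpCat.{w}} (f : F ⟶ G) :
    Epi f ↔ ∀ (U : C) (s : G.obj.obj (op U)), ∃ R ∈ J U, ∀ ⦃V : C⦄ (g : V ⟶ U), R g →
      ∃ t : F.obj.obj (op V), f.hom.app (op V) t = G.obj.map g.op s := by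
  rw [← Sheaf.isLocallySurjective_iff_epi']
  constructor
  · intro h U s
    exact ⟨Presheaf.imageSieve f.hom s, Presheaf.imageSieve_mem J f.hom s, fun V g hg => hg⟩
  · intro h
    constructor
    intro U s
    obtain ⟨R, hR, hR'⟩ := h U s
    exact J.superset_covering (fun V g hg => hR' g hg) hR

omit [J.WEqualsLocallyBijective AddCommGrpCat.{w}] in
/-- the kernel of a morphism of sheaves is computed on sections -/
theorem exists_kernel_section {F G : Sheaf J AddCommGrpCat.{w}} (f : F ⟶ G) {U : Cᵒᵖ} (s : F.obj.obj U)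
    (hs : f.hom.app U s = 0) : ∃ t : (kernel f).obj.obj U, (kernel.ι f).hom.app U t = s := by
  let E : Sheaf J AddCommGrpCat.{w} ⥤ AddCommGrpCat.{w} := sheafToPresheaf J _ ⋙ (evaluation _ _).obj U
  have : PreservesLimitsOfShape WalkingParallelPair E := inferInstance
  have : E.PreservesZeroMorphisms := ⟨fun X Y => rfl⟩
  have hl := isLimitForkMapOfIsLimit' E (kernel.condition f) (kernelIsKernel f)
  let S : ShortComplex AddCommGrpCat.{w} := ShortComplex.mk (E.map (kernel.ι f)) (E.map f)
    (by rw [← E.map_comp, kernel.condition, E.map_zero])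
  have hS : S.Exact := ShortComplex.exact_of_f_is_kernel _ hl
  rw [ShortComplex.ab_exact_iff] at hS
  exact hS s hs

omit [J.WEqualsLocallyBijective AddCommGrpCat.{w}] in
/-- left exactness of sections -/
theorem exists_section {S : ShortComplex (Sheaf J AddCommGrpCat.{w})} (hS : S.Exact) [Mono S.f] {U : Cᵒᵖ}
    (s : S.X₂.obj.obj U) (hs : S.g.hom.app U s = 0) : ∃ t : S.X₁.obj.obj U, S.f.hom.app U t = s := by
  obtain ⟨k, hk⟩ := exists_kernel_section S.g s hs
  have hl := hS.fIsKernel
  let l : kernel S.g ⟶ S.X₁ := hl.lift (KernelFork.ofι (kernel.ι S.g) (kernel.condition S.g))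
  have hlf : l ≫ S.f = kernel.ι S.g := hl.fac (KernelFork.ofι (kernel.ι S.g) (kernel.condition S.g)) WalkingParallelPair.zero
  refine ⟨l.hom.app U k, ?_⟩
  rw [← hk, ← hlf]
  rfl

/-- exactness in terms of local sections -/
theorem exact_iff_locally (S : ShortComplex (Sheaf J AddCommGrpCat.{w})) :
    S.Exact ↔ ∀ (U : C) (s : S.X₂.obj.obj (op U)), S.g.hom.app (op U) s = 0 → ∃ R ∈ J U,
      ∀ ⦃V : C⦄ (g : V ⟶ U), R g → ∃ t : S.X₁.obj.obj (op V), S.f.hom.app (op V) t = S.X₂.obj.map g.op s := by
  rw [ShortComplex.exact_iff_epi_kernel_lift, epi_iff_locally]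
  constructor
  · intro h U s hs
    obtain ⟨k, hk⟩ := exists_kernel_section S.g s hs
    obtain ⟨R, hR, hR'⟩ := h U k
    refine ⟨R, hR, fun V g hg => ?_⟩
    obtain ⟨t, ht⟩ := hR' g hg
    refine ⟨t, ?_⟩
    have h1 : S.f.hom.app (op V) t = (kernel.ι S.g).hom.app (op V) ((kernel.lift S.g S.f S.zero).hom.app (op V) t) := by
      conv_lhs => rw [← kernel.lift_ι S.g S.f S.zero]
      rfl
    rw [h1, ht, ← hk]
    exact ConcreteCategory.congr_hom ((kernel.ι S.g).hom.naturality g.op) k
  · intro h U k
    have hs : S.g.hom.app (op U) ((kernel.ι S.g).hom.app (op U) k) = 0 := by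
      have := congrArg (fun φ => φ.hom.app (op U) k) (kernel.condition S.g)
      exact this
    obtain ⟨R, hR, hR'⟩ := h U _ hs
    refine ⟨R, hR, fun V g hg => ?_⟩
    obtain ⟨t, ht⟩ := hR' g hg
    refine ⟨t, mono_app (kernel.ι S.g) (op V) ?_⟩
    have h1 : S.f.hom.app (op V) t = (kernel.ι S.g).hom.app (op V) ((kernel.lift S.g S.f S.zero).hom.app (op V) t) := by
      conv_lhs => rw [← kernel.lift_ι S.g S.f S.zero]
      rfl
    rw [← h1, ht]
    exact (ConcreteCategory.congr_hom ((kernel.ι S.g).hom.naturality g.op) k).symm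

/-- a complex of sheaves which is exact on sections is exact -/
theorem exact_of_sections (S : ShortComplex (Sheaf J AddCommGrpCat.{w}))
    (h : ∀ (U : C) (s : S.X₂.obj.obj (op U)), S.g.hom.app (op U) s = 0 →
      ∃ t : S.X₁.obj.obj (op U), S.f.hom.app (op U) t = s) : S.Exact := by
  rw [exact_iff_locally]
  intro U s hs
  obtain ⟨t, ht⟩ := h U s hs
  refine ⟨⊤, J.top_mem U, fun V g _ => ⟨S.X₁.obj.map g.op t, ?_⟩⟩
  rw [← ht]
  exact ConcreteCategory.congr_hom (S.f.hom.naturality g.op) t

theorem epi_of_sections {F G : Sheaf J AddCommGrpCat.{w}} (f : F ⟶ G)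
    (h : ∀ (U : C) (s : G.obj.obj (op U)), ∃ t : F.obj.obj (op U), f.hom.app (op U) t = s) : Epi f := by
  rw [epi_iff_locally]
  intro U s
  exact ⟨⊤, J.top_mem U, fun V g _ => h V _⟩

omit [J.WEqualsLocallyBijective AddCommGrpCat.{w}] [HasSheafify J AddCommGrpCat.{w}] in
/-- a sheaf is zero iff all its sections vanish -/
theorem isZero_iff_sections (F : Sheaf J AddCommGrpCat.{w}) :
    IsZero F ↔ ∀ (U : C) (s : F.obj.obj (op U)), s = 0 := by
  rw [IsZero.iff_id_eq_zero]
  constructor
  · intro h U s
    have := congrArg (fun φ => φ.hom.app (op U) s) h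
    exact this
  · intro h
    apply Sheaf.hom_ext
    ext U s
    exact h U.unop s

omit [J.WEqualsLocallyBijective AddCommGrpCat.{w}] [HasSheafify J AddCommGrpCat.{w}] in
/-- sections which vanish locally vanish -/
theorem eq_zero_of_locally (F : Sheaf J AddCommGrpCat.{w}) {U : C} (s : F.obj.obj (op U)) (R : Sieve U)
    (hR : R ∈ J U) (h : ∀ ⦃V : C⦄ (g : V ⟶ U), R g → F.obj.map g.op s = 0) : s = 0 := by
  have hF := ((sheafCompose J (forget AddCommGrpCat.{w})).obj F).property
  rw [isSheaf_iff_isSheaf_of_type] at hF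
  exact (hF R hR).isSeparatedFor.ext fun V g hg => (h g hg).trans (map_zero (F.obj.map g.op).hom).symm

end K453.SheafEx
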