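import Groth.Prelude.Def_BigSite
import Mathlib.AlgebraicGeometry.Sites.BigZariski
import Mathlib.AlgebraicGeometry.Morphisms.UniversallyOpen
import Mathlib.AlgebraicGeometry.Morphisms.Flat
import Mathlib.AlgebraicGeometry.Morphisms.FlatDescent
import Groth.Agent.AbSch.K453.SheafEx

/-!
# Covering sieves of the big fppf site

* `mem_J_iff`: covering sieves of the big fppf site of `S`;
* `exists_finite_affine`: over a quasi-compact object a covering sieve contains a finite jointly surjective family of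
  flat morphisms locally of finite presentation from affine schemes;
* `eq_zero_of_finite`, `isOfFinAddOrder_of_finite`.
-/

set_option autoImplicit false
universe w u
open CategoryTheory CategoryTheory.Limits AlgebraicGeometry Opposite

namespace K453.FppfCov

open K453.SheafEx

theorem mem_grothendieckTopology_iff_forall {P : MorphismProperty Scheme.{u}} [P.IsMultiplicative]
    [P.IsStableUnderBaseChange] {X : Scheme.{u}} {S : Sieve X} :
    S ∈ Scheme.grothendieckTopology P X ↔ ∀ x : X, ∃ (Y : Scheme.{u}) (g : Y ⟶ X), S g ∧ P g ∧ 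
      x ∈ Set.range g := by
  rw [Scheme.mem_grothendieckTopology_iff]
  constructor
  · rintro ⟨𝒰, h⟩ x
    obtain ⟨i, y, hy⟩ := 𝒰.exists_eq x
    exact ⟨𝒰.X i, 𝒰.f i, h _ _ ⟨i⟩, 𝒰.map_prop i, ⟨y, hy⟩⟩
  · intro h
    choose Y g hg hP hy using h
    let 𝒰 : Scheme.Cover.{u} (Scheme.precoverage P) X :=
      { I₀ := X
        X := Y
        f := g
        mem₀ := by
          rw [Scheme.presieve₀_mem_precoverage_iff]
          exact ⟨fun x => ⟨x, hy x⟩, hP⟩ }
    refine ⟨𝒰, ?_⟩
    rintro _ _ ⟨i⟩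
    exact hg i

theorem mem_over_grothendieckTopology_iff {P : MorphismProperty Scheme.{u}} [P.IsMultiplicative]
    [P.IsStableUnderBaseChange] {S : Scheme.{u}} {T : Over S} {R : Sieve T} :
    R ∈ (Scheme.grothendieckTopology P).over S T ↔ ∀ x : T.left, ∃ (Y : Over S) (g : Y ⟶ T), R g ∧ P g.left ∧ 
      x ∈ Set.range g.left := by
  rw [GrothendieckTopology.mem_over_iff, mem_grothendieckTopology_iff_forall]
  constructor
  · intro h x
    obtain ⟨Y, g, hg, hP, hx⟩ := h x
    rw [Sieve.overEquiv_iff] at hg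
    exact ⟨_, _, hg, hP, hx⟩
  · intro h x
    obtain ⟨Y, g, hg, hP, hx⟩ := h x
    refine ⟨Y.left, g.left, ?_, hP, hx⟩
    rw [Sieve.overEquiv_iff]
    have := R.downward_closed hg (Over.homMk (𝟙 _) (by simp) : Over.mk (g.left ≫ T.hom) ⟶ Y)
    convert this using 1
    ext
    simp

set_option backward.isDefEq.respectTransparency.types false in
/-- Covering sieves of the big fppf site. -/
theorem mem_J_iff {S : Scheme.{u}} {T : Over S} {R : Sieve T} :
    R ∈ QuotSh.J Scheme.fppfPrecoverage S T ↔ ∀ x : T.left, ∃ (Y : Over S) (g : Y ⟶ T), R g ∧ Flat g.left ∧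
      LocallyOfFinitePresentation g.left ∧ x ∈ Set.range g.left := by
  have h1 : MorphismProperty.IsMultiplicative (C := Scheme.{u}) @LocallyOfFinitePresentation :=
    { id_mem := fun X => inferInstanceAs (LocallyOfFinitePresentation (𝟙 X)) }
  have h2 : MorphismProperty.IsMultiplicative (C := Scheme.{u}) @Flat := 
    { id_mem := fun X => inferInstanceAs (Flat (𝟙 X)) }
  have h3 : MorphismProperty.IsMultiplicative (C := Scheme.{u}) (@Flat ⊓ @LocallyOfFinitePresentation) := 
    MorphismProperty.IsMultiplicative.inf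
  refine (mem_over_grothendieckTopology_iff (P := @Flat ⊓ @LocallyOfFinitePresentation)).trans ?_
  refine forall_congr' fun x => exists_congr fun Y => exists_congr fun g => ?_
  constructor
  · rintro ⟨h1, ⟨h2, h3⟩, h4⟩
    exact ⟨h1, h2, h3, h4⟩
  · rintro ⟨h1, h2, h3, h4⟩
    exact ⟨h1, ⟨h2, h3⟩, h4⟩

theorem mem_fppf_iff {X : Scheme.{u}} {R : Sieve X} :
    R ∈ Scheme.fppfPrecoverage.toGrothendieck X ↔ ∀ x : X, ∃ (Y : Scheme.{u}) (g : Y ⟶ X), R g ∧ Flat g ∧
      LocallyOfFinitePresentation g ∧ x ∈ Set.range g := by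
  have h1 : MorphismProperty.IsMultiplicative (C := Scheme.{u}) @LocallyOfFinitePresentation :=
    { id_mem := fun X => inferInstanceAs (LocallyOfFinitePresentation (𝟙 X)) }
  have h2 : MorphismProperty.IsMultiplicative (C := Scheme.{u}) @Flat := 
    { id_mem := fun X => inferInstanceAs (Flat (𝟙 X)) }
  have h3 : MorphismProperty.IsMultiplicative (C := Scheme.{u}) (@Flat ⊓ @LocallyOfFinitePresentation) := 
    MorphismProperty.IsMultiplicative.inf
  refine (mem_grothendieckTopology_iff_forall (P := @Flat ⊓ @LocallyOfFinitePresentation)).trans ?_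
  refine forall_congr' fun x => exists_congr fun Y => exists_congr fun g => ?_
  constructor
  · rintro ⟨h1, ⟨h2, h3⟩, h4⟩
    exact ⟨h1, h2, h3, h4⟩
  · rintro ⟨h1, h2, h3, h4⟩
    exact ⟨h1, ⟨h2, h3⟩, h4⟩

variable {S : Scheme.{u}}

/-- pointwise: an affine object of the sieve -/
theorem exists_affine {T : Over S} {R : Sieve T} (hR : R ∈ QuotSh.J Scheme.fppfPrecoverage S T) (x : T.left) :
    ∃ (Y : Over S) (g : Y ⟶ T), IsAffine Y.left ∧ R g ∧ Flat g.left ∧ LocallyOfFinitePresentation g.left ∧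
      x ∈ Set.range g.left := by
  obtain ⟨Y, g, hg, h1, h2, y, hy⟩ := mem_J_iff.mp hR x
  obtain ⟨U, hU, hyU⟩ : ∃ U : Y.left.Opens, IsAffineOpen U ∧ y ∈ U := by
    obtain ⟨_, ⟨U, hU, rfl⟩, hyU, -⟩ := Y.left.isBasis_affineOpens.exists_subset_of_mem_open
      (Set.mem_univ y) isOpen_univ
    exact ⟨U, hU, hyU⟩
  have : IsAffine (U : Scheme.{u}) := hU
  refine ⟨Over.mk (U.ι ≫ Y.hom), Over.homMk U.ι ≫ g, this, R.downward_closed hg _, ?_, ?_, ?_⟩
  · exact inferInstanceAs (Flat (U.ι ≫ g.left))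
  · exact inferInstanceAs (LocallyOfFinitePresentation (U.ι ≫ g.left))
  · refine ⟨⟨y, hyU⟩, ?_⟩
    exact hy

theorem exists_finite_affine {T : Over S} [CompactSpace T.left] {R : Sieve T}
    (hR : R ∈ QuotSh.J Scheme.fppfPrecoverage S T) :
    ∃ (n : ℕ) (Z : Fin n → Over S) (g : ∀ i, Z i ⟶ T), (∀ i, IsAffine (Z i).left) ∧ (∀ i, R (g i)) ∧
      (∀ i, Flat (g i).left) ∧ (∀ i, LocallyOfFinitePresentation (g i).left) ∧
      ∀ x : T.left, ∃ i, x ∈ Set.range (g i).left := by
  choose Z g h1 h2 h3 h4 h5 using fun x : T.left => exists_affine hR x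
  have hop : ∀ x : T.left, IsOpen (Set.range (g x).left) := fun x =>
    have := h3 x
    have := h4 x
    (g x).left.isOpenMap.isOpen_range
  obtain ⟨t, ht⟩ := isCompact_univ.elim_finite_subcover (fun x : T.left => Set.range (g x).left) hop
    (fun x _ => Set.mem_iUnion.mpr ⟨x, h5 x⟩)
  let e := t.equivFin
  refine ⟨t.card, fun i => Z (e.symm i).1, fun i => g (e.symm i).1, fun i => h1 _, fun i => h2 _, fun i => h3 _,
    fun i => h4 _, fun x => ?_⟩
  obtain ⟨y, hy⟩ := Set.mem_iUnion.mp (ht (Set.mem_univ x))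
  obtain ⟨hyt, hxy⟩ := Set.mem_iUnion.mp hy
  refine ⟨e ⟨y, hyt⟩, ?_⟩
  change x ∈ Set.range (g (e.symm (e ⟨y, hyt⟩)).1).left
  rw [Equiv.symm_apply_apply]
  exact hxy

/-- A section of an abelian sheaf vanishing on a covering family is zero. -/
theorem eq_zero_of_family (F : BigSite.Ab Scheme.fppfPrecoverage S) {T : Over S} (s : F.obj.obj (op T))
    {ι : Type*} (Z : ι → Over S) (g : ∀ i, Z i ⟶ T) (h3 : ∀ i, Flat (g i).left)
    (h4 : ∀ i, LocallyOfFinitePresentation (g i).left) (h5 : ∀ x : T.left, ∃ i, x ∈ Set.range (g i).left)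
    (h : ∀ i, F.obj.map (g i).op s = 0) : s = 0 := by
  refine eq_zero_of_locally F s (Sieve.ofArrows Z g) (mem_J_iff.mpr fun x => ?_) fun V f hf => ?_
  · obtain ⟨i, hi⟩ := h5 x
    exact ⟨Z i, g i, Sieve.ofArrows_mk _ _ i, h3 i, h4 i, hi⟩
  · obtain ⟨i, a, rfl⟩ := Sieve.mem_ofArrows_iff _ _ _ |>.mp hf
    rw [op_comp, F.obj.map_comp, ConcreteCategory.comp_apply, h i, map_zero]

theorem isOfFinAddOrder_of_finite (F : BigSite.Ab Scheme.fppfPrecoverage S) {T : Over S} (s : F.obj.obj (op T))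
    {n : ℕ} (Z : Fin n → Over S) (g : ∀ i, Z i ⟶ T) (h3 : ∀ i, Flat (g i).left)
    (h4 : ∀ i, LocallyOfFinitePresentation (g i).left) (h5 : ∀ x : T.left, ∃ i, x ∈ Set.range (g i).left)
    (h : ∀ i, IsOfFinAddOrder (F.obj.map (g i).op s)) : IsOfFinAddOrder s := by
  choose m hm hm' using fun i => isOfFinAddOrder_iff_nsmul_eq_zero.mp (h i)
  refine isOfFinAddOrder_iff_nsmul_eq_zero.mpr ⟨∏ i, m i, Finset.prod_pos fun i _ => hm i, ?_⟩
  refine eq_zero_of_family F _ Z g h3 h4 h5 fun i => ?_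
  rw [map_nsmul, ← Finset.prod_erase_mul _ _ (Finset.mem_univ i), mul_nsmul', hm' i, nsmul_zero]

end K453.FppfCov
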