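import Groth.Agent.AbSch.K453.ExtSlice
import Groth.Agent.AbSch.K453.FppfCov

/-!
# Torsion sections of `𝓔xt¹`, and vanishing of `𝓔xt¹` tested on affine schemes, on the big fppf site

* `isOfFinAddOrder_sect`: sections of `𝓔xt¹(pts G, pts H)` over quasi-compact objects are torsion if all classes of
  `Ext¹(G_Y, H_Y)`, `Y` affine, are;
* `isZero_of_affine`: a sheaf is zero if its sections on affine objects are zero;
* `isZero_extSh_of_affine`: `𝓔xt¹(pts G, pts H) = 0` if, over affine `Y → S`, all extensions of `G_Y` by `H_Y` split locally.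
-/

set_option autoImplicit false
universe u
open CategoryTheory CategoryTheory.Limits MonoidalCategory CartesianMonoidalCategory MonObj AlgebraicGeometry
open CGrpSh Opposite CategoryTheory.Abelian

namespace K453.ExtTors

open K453.SheafEx K453.HomShEx K453.Slice K453.OverEx K453.ExtLoc K453.ExtLift K453.ExtSlice K453.FppfCov

attribute [local instance] hasExt hasInjectiveResolutions enoughInjectives

variable {S : Scheme.{u}}

/-- Sections of `𝓔xt¹(pts G, pts H)` over quasi-compact objects are torsion if all classes over affine schemes are. -/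
theorem isOfFinAddOrder_sect (G H : Over S) [GrpObj G] [IsCommMonObj G] [GrpObj H] [IsCommMonObj H]
    (h : ∀ (Y : Over S) [IsAffine Y.left] (e : ExtS Scheme.fppfPrecoverage (Red.bc Y.hom G) (Red.bc Y.hom H) 1),
      IsOfFinAddOrder e)
    (X : Over S) [CompactSpace X.left]
    (x : ((HomSh.extSh (QuotSh.J Scheme.fppfPrecoverage S) (pts Scheme.fppfPrecoverage G) 1).obj
      (pts Scheme.fppfPrecoverage H)).obj.obj (op X)) : IsOfFinAddOrder x := by
  obtain ⟨R, hR, h1⟩ := exists_locally (QuotSh.J Scheme.fppfPrecoverage S) X x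
  obtain ⟨n, Z, g, a1, a2, a3, a4, a5⟩ := exists_finite_affine hR
  refine isOfFinAddOrder_of_finite _ x Z g a3 a4 a5 fun i => ?_
  obtain ⟨e, he⟩ := h1 (g i) (a2 i)
  rw [← he]
  have := a1 i
  have h2 : IsOfFinAddOrder e := by
    rw [← (toExtS_injective Scheme.fppfPrecoverage (Z i) G H).isOfFinAddOrder_iff (f := toExtS _ (Z i) G H)]
    exact h (Z i) _
  exact AddMonoidHom.isOfFinAddOrder _ h2

/-- an abelian sheaf on the big fppf site is zero if its sections over affine objects are zero -/
theorem isZero_of_affine (F : BigSite.Ab Scheme.fppfPrecoverage S)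
    (h : ∀ (Y : Over S) [IsAffine Y.left] (s : F.obj.obj (op Y)), s = 0) : IsZero F := by
  refine (isZero_iff_sections _).mpr fun X s => ?_
  choose Z g a1 a2 a3 a4 a5 using fun x : X.left =>
    exists_affine (S := S) (T := X) (GrothendieckTopology.top_mem _ _) x
  refine eq_zero_of_family F s Z g a3 a4 (fun x => ⟨x, a5 x⟩) fun x => ?_
  have := a1 x
  exact h _ _

/-- `𝓔xt¹(pts G, pts H) = 0` if over every affine `Y → S` all extensions of `G_Y` by `H_Y` are locally split. -/
theorem isZero_extSh_of_affine (G H : Over S) [GrpObj G] [IsCommMonObj G] [GrpObj H] [IsCommMonObj H]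
    (h : ∀ (Y : Over S) [IsAffine Y.left] (E : BigSite.Ab Scheme.fppfPrecoverage Y.left)
      (i : pts Scheme.fppfPrecoverage (Red.bc Y.hom H) ⟶ E)
      (p : E ⟶ pts Scheme.fppfPrecoverage (Red.bc Y.hom G)) (w : i ≫ p = 0) (_ : (ShortComplex.mk i p w).ShortExact),
      ∃ R ∈ Scheme.fppfPrecoverage.toGrothendieck Y.left, ∀ ⦃Z : Scheme.{u}⦄ (f : Z ⟶ Y.left), R f →
        ∃ s : (restr Scheme.fppfPrecoverage (Over.mk f)).obj (pts Scheme.fppfPrecoverage (Red.bc Y.hom G)) ⟶
            (restr Scheme.fppfPrecoverage (Over.mk f)).obj E,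
          s ≫ (restr Scheme.fppfPrecoverage (Over.mk f)).map p = 𝟙 _) :
    IsZero ((HomSh.extSh (QuotSh.J Scheme.fppfPrecoverage S) (pts Scheme.fppfPrecoverage G) 1).obj
      (pts Scheme.fppfPrecoverage H)) := by
  refine isZero_of_affine _ fun X _ s => ?_
  obtain ⟨R, hR, h1⟩ := exists_locally (QuotSh.J Scheme.fppfPrecoverage S) X s
  choose Z g a1 a2 a3 a4 a5 using fun x : X.left => exists_affine hR x
  refine eq_zero_of_family _ s Z g a3 a4 (fun x => ⟨x, a5 x⟩) fun x => ?_
  obtain ⟨e, he⟩ := h1 (g x) (a2 x)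
  rw [← he]
  obtain ⟨E, i, p, w, hE, rfl⟩ := exists_extension e
  have := a1 x
  obtain ⟨R', hR', h2⟩ := h (Z x) _ _ _ _ (shortExact_tr i p w hE)
  refine (clsE_eq_zero_iff (QuotSh.J Scheme.fppfPrecoverage S) i p w hE).mpr
    ⟨(Sieve.overEquiv (Z x)).symm R', GrothendieckTopology.overEquiv_symm_mem_over _ _ R' hR', fun Z' f hf => ?_⟩
  obtain ⟨s, hs⟩ := h2 f.left ((Sieve.overEquiv_symm_iff _ _).mp hf)
  exact exists_splitting p f s hs

end K453.ExtTors
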