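import Groth.Agent.AbSch.K472.Res
import Groth.Agent.AbSch.K454.ToriExt
import Groth.Agent.AbSch.K453.ExtTors

/-!
# Torsion of `Ext¹(T, A)`: from extensions of `G_m` over affine schemes to extensions of tori (split case)

* `Tors F G`: all classes of `Ext¹(F, G)` are torsion; `Tors.of_sum_left`, `Tors.of_iso`;
* `isOfFinAddOrder_extClass_iff`, `exists_ns_iff`: the class of an extension is torsion iff there is an `n`-splitting;
* `tors_split`: `Ext¹(T, A)` is torsion for a split torus `T` if it is for `G_m`.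
-/

set_option autoImplicit false
universe w v u
open CategoryTheory CategoryTheory.Limits MonoidalCategory CartesianMonoidalCategory MonObj AlgebraicGeometry
open CategoryTheory.Abelian CGrpSh Opposite

namespace K453.Asm

section Abs

variable {A : Type u} [Category.{v} A] [Abelian A] [HasExt.{w} A]

/-- all classes in `Ext¹(F, G)` are torsion -/
def Tors (F G : A) : Prop := ∀ x : Ext.{w} F G 1, IsOfFinAddOrder x

theorem Tors.of_sum_left {F G : A} {J : Type*} [Fintype J] (F' : J → A) (π : ∀ j, F ⟶ F' j) (κ : ∀ j, F' j ⟶ F)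
    (hsum : ∑ j, π j ≫ κ j = 𝟙 F) (h : ∀ j, Tors.{w} (F' j) G) : Tors.{w} F G := by
  intro x
  have h1 : ∀ s : Finset J, IsOfFinAddOrder ((Ext.mk₀ (∑ j ∈ s, π j ≫ κ j)).comp x (zero_add 1)) := by
    classical
    intro s
    induction s using Finset.induction_on with
    | empty => simp
    | insert a s ha ih =>
      have h3 : IsOfFinAddOrder ((Ext.mk₀ (κ a)).comp x (zero_add 1)) := h a _
      let φ : Ext.{w} (F' a) G 1 →+ Ext.{w} F G 1 :=
        { toFun := fun y => (Ext.mk₀ (π a)).comp y (zero_add 1)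
          map_zero' := by simp
          map_add' := fun y z => Ext.comp_add _ _ _ _ }
      have h4 : IsOfFinAddOrder (φ ((Ext.mk₀ (κ a)).comp x (zero_add 1))) := AddMonoidHom.isOfFinAddOrder φ h3
      have h5 : (Ext.mk₀ (π a ≫ κ a)).comp x (zero_add 1) = φ ((Ext.mk₀ (κ a)).comp x (zero_add 1)) := by
        change _ = (Ext.mk₀ (π a)).comp ((Ext.mk₀ (κ a)).comp x (zero_add 1)) (zero_add 1)
        rw [← Ext.mk₀_comp_mk₀, Ext.comp_assoc_of_second_deg_zero]
      rw [Finset.sum_insert ha, Ext.mk₀_add, Ext.add_comp, h5]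
      exact h4.add ih
  have h2 := h1 Finset.univ
  rwa [hsum, Ext.mk₀_id_comp] at h2

theorem Tors.of_iso {F F' G : A} (e : F ≅ F') (h : Tors.{w} F' G) : Tors.{w} F G :=
  Tors.of_sum_left (J := Unit) (fun _ => F') (fun _ => e.hom) (fun _ => e.inv) (by simp) fun _ => h

theorem isOfFinAddOrder_extClass_iff {E : ShortComplex A} (hE : E.ShortExact) :
    IsOfFinAddOrder (hE.extClass : Ext.{w} _ _ 1) ↔ ∃ n : ℕ, 0 < n ∧ ∃ τ : E.X₃ ⟶ E.X₂, τ ≫ E.g = n • 𝟙 _ := by
  rw [isOfFinAddOrder_iff_nsmul_eq_zero]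
  have key : ∀ n : ℕ, n • (hE.extClass : Ext.{w} _ _ 1) = K453.ExtLift.conn.{w} hE E.X₃ (n • 𝟙 _) := by
    intro n
    rw [map_nsmul, K453.ExtLift.conn_apply, Ext.mk₀_id_comp]
  constructor
  · rintro ⟨n, hn, h⟩
    rw [key, K453.ExtLift.conn_eq_zero_iff] at h
    exact ⟨n, hn, h⟩
  · rintro ⟨n, hn, h⟩
    refine ⟨n, hn, ?_⟩
    rw [key, K453.ExtLift.conn_eq_zero_iff]
    exact h

end Abs

section Dat

open K630.AbExt Groth.Agent.Etdl.H432.Sec K452.HomPts K771.HomEv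

variable {S : Scheme.{u}} {T A : Over S} [GrpObj T] [IsCommMonObj T] [GrpObj A] [IsCommMonObj A]

theorem ns_unit_iff (D : Dat T A) (n : ℕ) :
    D.NS n (𝟙_ (Over S)) ↔ ∃ τ : P T ⟶ D.E, τ ≫ D.q = n • 𝟙 _ := by
  rw [K472.AbRes.ns_iff]
  constructor
  · rintro ⟨e, he⟩
    obtain ⟨τ, h1, -⟩ := K452.NSplit.IsNSplit.exists_hom CartesianMonoidalCategory.isTerminalTensorUnit he
    exact ⟨τ, by rw [h1, natCast_zsmul]⟩
  · rintro ⟨τ, hτ⟩
    exact ⟨_, K452.NSplit.ofHom D.q n τ (by rw [hτ, natCast_zsmul]) _⟩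

attribute [local instance] K453.OverEx.hasExt K453.OverEx.enoughInjectives

theorem isOfFinAddOrder_dat_iff (D : Dat T A) :
    IsOfFinAddOrder (D.ex.extClass : Ext.{u + 1} (P T) (P A) 1) ↔ ∃ n : ℕ, 0 < n ∧ D.NS n (𝟙_ (Over S)) := by
  rw [isOfFinAddOrder_extClass_iff.{u + 1}]
  simp only [ns_unit_iff]

theorem tors_iff : Tors.{u + 1} (P T) (P A) ↔ ∀ D : Dat T A, ∃ n : ℕ, 0 < n ∧ D.NS n (𝟙_ (Over S)) := by
  constructor
  · intro h D
    exact (isOfFinAddOrder_dat_iff D).mp (h _)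
  · intro h x
    obtain ⟨E, i, q, w, hE, rfl⟩ := K453.ExtLift.exists_extension x
    exact (isOfFinAddOrder_dat_iff ⟨E, i, q, w, hE⟩).mpr (h _)

theorem tors_split (h : Tors.{u + 1} (P (Red.Gm S)) (P A)) {r : ℕ} (hT : Red.IsSplitTorusWith (Fin r → ℤ) T) :
    Tors.{u + 1} (P T) (P A) := by
  obtain ⟨e⟩ := hT
  refine Tors.of_iso (K454.ToriExt.ptsIsoOf Scheme.fppfPrecoverage e) ?_
  exact Tors.of_sum_left.{u + 1} (fun _ => P (Red.Gm S)) _ _
    (K454.ToriExt.sum_dsHom Scheme.fppfPrecoverage r) fun _ => h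

end Dat

end K453.Asm
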