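import Groth.Agent.AbSch.K453.Asm
import Groth.Agent.Sga3B.TorusEtSplit

/-!
# Torsion of `Ext¹(T, A)`: reduction to extensions of `G_m` over affine schemes

* `HGm`: every extension of `G_m` by an abelian scheme over an affine scheme has an `n`-splitting, `n > 0`;
* `isOfFinAddOrder_of_Gm`: then `Ext¹(T, A)` is torsion for every torus `T` over a quasi-compact scheme.
-/

set_option autoImplicit false
universe u
open CategoryTheory CategoryTheory.Limits MonoidalCategory CartesianMonoidalCategory MonObj AlgebraicGeometry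
open CategoryTheory.Abelian CGrpSh Opposite

namespace K453.Asm

open K630.AbExt Groth.Agent.Etdl.H432.Sec K452.HomPts K771.HomEv

/-- Extensions of `G_m` by abelian schemes over affine schemes have `n`-splittings. -/
def HGm : Prop :=
  ∀ (Λ : Type u) [CommRing Λ] (A : Over (Spec (CommRingCat.of Λ))) [GrpObj A] [IsCommMonObj A] [Smooth A.hom]
    [IsProper A.hom] [GeometricallyConnected A.hom] (D : Dat (Red.Gm (Spec (CommRingCat.of Λ))) A),
    ∃ n : ℕ, 0 < n ∧ D.NS n (𝟙_ (Over (Spec (CommRingCat.of Λ))))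

variable (H : HGm.{u})

include H in
/-- a scheme `W = Spec B` over which `T` is split -/
theorem exists_ns_of_split {S : Scheme.{u}} {T A : Over S} [GrpObj T] [IsCommMonObj T] [GrpObj A] [IsCommMonObj A]
    [Smooth A.hom] [IsProper A.hom] [GeometricallyConnected A.hom] (D : Dat T A) {B : Type u} [CommRing B]
    (v : Spec (CommRingCat.of B) ⟶ S) {r : ℕ} (hr : Red.IsSplitTorusWith (Fin r → ℤ) (Red.bc v T)) :
    ∃ n : ℕ, 0 < n ∧ D.NS n (Over.mk v) := by
  have h1 : IsProper (Red.bc v A).hom := by
    change IsProper (pullback.snd A.hom v)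
    infer_instance
  have h2 : Smooth (Red.bc v A).hom := by
    change Smooth (pullback.snd A.hom v)
    infer_instance
  have h3 : GeometricallyConnected (Red.bc v A).hom := by
    change GeometricallyConnected (pullback.snd A.hom v)
    infer_instance
  obtain ⟨D', hD'⟩ := K472.AbRes.exists_res v D
  have h4 := tors_split (T := Red.bc v T) (A := Red.bc v A) (tors_iff.mpr (H B (Red.bc v A))) hr
  obtain ⟨n, hn, h5⟩ := tors_iff.mp h4 D'
  refine ⟨n, hn, ((hD' n _).mp h5).restrict (V' := Over.mk v) (Over.homMk (𝟙 _) ?_)⟩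
  change 𝟙 _ ≫ 𝟙 _ ≫ v = v
  rw [Category.id_comp, Category.id_comp]

include H in
theorem exists_ns {S : Scheme.{u}} [CompactSpace S] {T A : Over S} [GrpObj T] [IsCommMonObj T] (hT : Red.IsTorus T)
    [GrpObj A] [IsCommMonObj A] [Smooth A.hom] [IsProper A.hom] [GeometricallyConnected A.hom] (D : Dat T A) :
    ∃ n : ℕ, 0 < n ∧ D.NS n (𝟙_ (Over S)) := by
  choose B hB v r hv hs hr using fun s : S => Groth.Agent.Sga3B.TorusEtSplit.exists_etale_split T hT s
  choose n hn hN using fun s : S => exists_ns_of_split H D (v s) (hr s)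
  obtain ⟨F, hF⟩ := isCompact_univ.elim_finite_subcover (fun s : S => Set.range (v s).base)
    (fun s => (v s).isOpenMap.isOpen_range) (fun s _ => Set.mem_iUnion.mpr ⟨s, hs s⟩)
  refine ⟨∏ s ∈ F, n s, Finset.prod_pos fun s _ => hn s, ?_⟩
  refine Dat.NS.of_cov hT (V := fun s : F => Over.mk (v s)) (g := fun s : F => Over.homMk (v s)) ?_ ?_
  · intro x
    obtain ⟨s, hsF, y, hy⟩ := Set.mem_iUnion₂.mp (hF (Set.mem_univ (x : S)))
    have := hv s
    exact ⟨⟨s, hsF⟩, inferInstanceAs (Flat (v s)), inferInstanceAs (LocallyOfFinitePresentation (v s)), y, hy⟩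
  · intro s
    exact (hN s).of_dvd (Finset.dvd_prod_of_mem n s.2)

attribute [local instance] K453.OverEx.hasExt K453.OverEx.enoughInjectives

include H in
/-- **Reduction of the torsion theorem to extensions of `G_m` over affine schemes.** -/
theorem isOfFinAddOrder_of_Gm {S : Scheme.{u}} [CompactSpace S] (T A : Over S)
    [GrpObj T] [IsCommMonObj T] (hT : Red.IsTorus T)
    [GrpObj A] [IsCommMonObj A] [Smooth A.hom] [IsProper A.hom]
    (hA : ∀ s : S, ConnectedSpace ↥(A.hom.fiber s))
    (e : CGrpSh.ExtS Scheme.fppfPrecoverage T A 1) : IsOfFinAddOrder e := by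
  have h1 := K453.HomVanish.geometricallyConnected A hA
  exact tors_iff.mpr (fun D => exists_ns H hT D) e

end K453.Asm
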