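import Groth.Agent.AbSch.K453.DerZero

/-!
# Transfer of the long exact sequences of right derived functors along isomorphisms of functors

Abstract abelian categories; `T ≅ F.rightDerived n`.
* second variable (object sequences): `exists_obj`, `obj_comp_zero`, `obj_exact`, `isZero_of_injective`;
* first variable (sequences of functors): `fun_comp_zero`, `fun_exact`, `exists_fun`.
-/

set_option autoImplicit false

open CategoryTheory CategoryTheory.Limits

namespace K453.DerTransfer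

universe v₁ v₂ u₁ u₂

open Groth.Agent.Sga4h K453.DerZero

variable {A : Type u₁} {B : Type u₂} [Category.{v₁} A] [Category.{v₂} B]

section Conj

theorem eqToHom_conj {T R T' R' : A ⥤ B}
    (h : T = R) (h' : T' = R') (ρ : R ⟶ R') :
    eqToHom h ≫ ρ ≫ eqToHom h'.symm = (eqToIso h).hom ≫ ρ ≫ (eqToIso h').inv := by
  subst h h'
  rfl

theorem app_conj {T R T' R' : A ⥤ B} (e : T ≅ R) (e' : T' ≅ R') (ρ : R ⟶ R') (a : T ⟶ T')
    (h : a = e.hom ≫ ρ ≫ e'.inv) (M : A) : a.app M = e.hom.app M ≫ ρ.app M ≫ e'.inv.app M := by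
  subst h
  rfl

theorem comm_left {T R T' R' : A ⥤ B} (e : T ≅ R) (e' : T' ≅ R') (ρ : R ⟶ R') (a : T ⟶ T')
    (h : a = e.hom ≫ ρ ≫ e'.inv) (M : A) : (e.app M).hom ≫ ρ.app M = a.app M ≫ (e'.app M).hom := by
  rw [app_conj e e' ρ a h M]
  simp

theorem comm_left_inv {T R T' R' : A ⥤ B} (e : T ≅ R) (e' : T' ≅ R') (ρ : R ⟶ R') (a : T ⟶ T')
    (h : a = e.hom ≫ ρ ≫ e'.inv) (M : A) : (e.app M).inv ≫ a.app M = ρ.app M ≫ (e'.app M).inv := by
  rw [app_conj e e' ρ a h M]
  simp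

end Conj

variable [Abelian A] [Abelian B] [HasInjectiveResolutions A]

section Obj

variable (F : A ⥤ B) [F.Additive] (T : A ⥤ B) (n : ℕ) (e : T ≅ F.rightDerived n)

include e in
theorem additive_of_iso : T.Additive :=
  have := LerayAcyc.rightDerived_additive F n
  Functor.additive_of_iso e.symm

include e in
theorem map_zero' (M N : A) : T.map (0 : M ⟶ N) = 0 := by
  have := additive_of_iso F T n e
  exact T.map_zero _ _

include e in
theorem obj_comp_zero {S : ShortComplex A} : T.map S.f ≫ T.map S.g = 0 := by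
  have := additive_of_iso F T n e
  rw [← T.map_comp, S.zero, T.map_zero]

include e in
/-- `T X₁ ⟶ T X₂ ⟶ T X₃` is exact -/
theorem obj_exact {S : ShortComplex A} (hS : S.ShortExact) (w : T.map S.f ≫ T.map S.g = 0) :
    (ShortComplex.mk (T.map S.f) (T.map S.g) w).Exact := by
  obtain ⟨h1, h2, -⟩ := Groth.Agent.Cohder.RDLES.exists_les F hS
  have w' : (F.rightDerived n).map S.f ≫ (F.rightDerived n).map S.g = 0 := obj_comp_zero F _ n (Iso.refl _)
  have h2' := h2 n w'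
  exact (ShortComplex.exact_iff_of_iso (ShortComplex.isoMk
    (S₁ := ShortComplex.mk (T.map S.f) (T.map S.g) w) (S₂ := ShortComplex.mk _ _ w')
    (e.app _) (e.app _) (e.app _) (e.hom.naturality _).symm (e.hom.naturality _).symm)).mpr h2'


/-- `F X₂ ⟶ F X₃ ⟶ T X₁ ⟶ T X₂` is exact, `T ≅ R¹F` -/
theorem exists_obj [PreservesFiniteLimits F] (T : A ⥤ B) (e : T ≅ F.rightDerived 1)
    {S : ShortComplex A} (hS : S.ShortExact) :
    ∃ (δ : F.obj S.X₃ ⟶ T.obj S.X₁) (w₁ : F.map S.g ≫ δ = 0) (w₂ : δ ≫ T.map S.f = 0),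
      (ShortComplex.mk _ _ w₁).Exact ∧ (ShortComplex.mk _ _ w₂).Exact := by
  obtain ⟨δ, w₁, w₂, w₃, e₁, e₂, e₃⟩ := exists_les₀ F hS
  have v₁ : F.map S.g ≫ δ ≫ e.inv.app S.X₁ = 0 := by rw [← Category.assoc, w₁, zero_comp]
  have v₂ : (δ ≫ e.inv.app S.X₁) ≫ T.map S.f = 0 := by
    rw [Category.assoc, ← e.inv.naturality, ← Category.assoc, w₂, zero_comp]
  refine ⟨δ ≫ e.inv.app S.X₁, v₁, v₂, ?_, ?_⟩
  · exact (ShortComplex.exact_iff_of_iso (ShortComplex.isoMk
      (S₁ := ShortComplex.mk _ _ v₁) (S₂ := ShortComplex.mk _ _ w₁)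
      (Iso.refl _) (Iso.refl _) (e.app _) (by simp) (by simp))).mpr e₁
  · exact (ShortComplex.exact_iff_of_iso (ShortComplex.isoMk
      (S₁ := ShortComplex.mk _ _ v₂) (S₂ := ShortComplex.mk _ _ w₂)
      (Iso.refl _) (e.app _) (e.app _) (by simp) (by simp))).mpr e₂

theorem isZero_of_injective (m : ℕ) (T : A ⥤ B) (e : T ≅ F.rightDerived (m + 1)) (I : A) [Injective I] :
    IsZero (T.obj I) :=
  IsZero.of_iso (F.isZero_rightDerived_obj_injective_succ m I) (e.app I)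

theorem isZero_of_injective_one (T : A ⥤ B) (e : T ≅ F.rightDerived 1) (I : A) [Injective I] :
    IsZero (T.obj I) :=
  isZero_of_injective F 0 T e I

/-- `T ≅ F` when `T ≅ R⁰F` and `F` is left exact -/
noncomputable def zeroIso [PreservesFiniteLimits F] (T : A ⥤ B) (e : T ≅ F.rightDerived 0) : T ≅ F :=
  e ≪≫ F.rightDerivedZeroIsoSelf

end Obj

section Fun

variable {P Q R : A ⥤ B} [P.Additive] [Q.Additive] [R.Additive] (α : P ⟶ Q) (β : Q ⟶ R)
  (w : ∀ M, α.app M ≫ β.app M = 0)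
  (h : ∀ I : A, Injective I → (ShortComplex.mk (α.app I) (β.app I) (w I)).ShortExact)

include w in
theorem fun_comp_zero (n : ℕ) {TP TQ TR : A ⥤ B} (eP : TP ≅ P.rightDerived n) (eQ : TQ ≅ Q.rightDerived n)
    (eR : TR ≅ R.rightDerived n) (a : TP ⟶ TQ) (b : TQ ⟶ TR)
    (ha : a = eP.hom ≫ NatTrans.rightDerived α n ≫ eQ.inv)
    (hb : b = eQ.hom ≫ NatTrans.rightDerived β n ≫ eR.inv) (M : A) : a.app M ≫ b.app M = 0 := by
  have := FunLES.comp_zero' α β w M n
  rw [app_conj eP eQ _ a ha, app_conj eQ eR _ b hb]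
  simp only [Category.assoc, Iso.inv_hom_id_app_assoc]
  rw [reassoc_of% this, zero_comp, comp_zero]

include h in
theorem fun_exact (n : ℕ) {TP TQ TR : A ⥤ B} (eP : TP ≅ P.rightDerived n) (eQ : TQ ≅ Q.rightDerived n)
    (eR : TR ≅ R.rightDerived n) (a : TP ⟶ TQ) (b : TQ ⟶ TR)
    (ha : a = eP.hom ≫ NatTrans.rightDerived α n ≫ eQ.inv)
    (hb : b = eQ.hom ≫ NatTrans.rightDerived β n ≫ eR.inv) (M : A) (w' : a.app M ≫ b.app M = 0) :
    (ShortComplex.mk (a.app M) (b.app M) w').Exact :=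
  (ShortComplex.exact_iff_of_iso (ShortComplex.isoMk
    (S₁ := ShortComplex.mk _ _ w') (S₂ := ShortComplex.mk _ _ (FunLES.comp_zero' α β w M n))
    (eP.app M) (eQ.app M) (eR.app M) (comm_left eP eQ _ a ha M) (comm_left eQ eR _ b hb M))).mpr
    (FunLES.exact₂ α β w h M n)

/-- the connecting morphism, transferred -/
noncomputable def δT {TP : A ⥤ B} (eP : TP ≅ P.rightDerived 1) (M : A) : R.obj M ⟶ TP.obj M :=
  FunLES.δ₀ α β w h M ≫ eP.inv.app M

theorem comp_δT {TP : A ⥤ B} (eP : TP ≅ P.rightDerived 1) (M : A) :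
    β.app M ≫ δT α β w h eP M = 0 := by
  unfold δT
  rw [← Category.assoc, FunLES.comp_δ₀, zero_comp]

theorem δT_comp {TP TQ : A ⥤ B} (eP : TP ≅ P.rightDerived 1) (eQ : TQ ≅ Q.rightDerived 1) (a : TP ⟶ TQ)
    (ha : a = eP.hom ≫ NatTrans.rightDerived α 1 ≫ eQ.inv) (M : A) :
    δT α β w h eP M ≫ a.app M = 0 := by
  have h1 := comm_left_inv eP eQ _ a ha M
  unfold δT
  rw [Category.assoc]
  refine (congrArg (fun z => FunLES.δ₀ α β w h M ≫ z) h1).trans ?_
  rw [← Category.assoc, δ₀_comp, zero_comp]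

theorem δT_exact₁ [PreservesFiniteLimits Q] [PreservesFiniteLimits R] {TP : A ⥤ B} (eP : TP ≅ P.rightDerived 1)
    (M : A) : (ShortComplex.mk (β.app M) (δT α β w h eP M) (comp_δT α β w h eP M)).Exact := by
  refine (ShortComplex.exact_iff_of_iso (ShortComplex.isoMk
    (S₁ := ShortComplex.mk (β.app M) (δT α β w h eP M) (comp_δT α β w h eP M))
    (S₂ := ShortComplex.mk _ _ (FunLES.comp_δ₀ α β w h M))
    (Iso.refl _) (Iso.refl _) (eP.app M) (by simp) (by simp [δT]))).mpr (FunLES.exact₀ α β w h M)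

theorem δT_exact₂ [PreservesFiniteLimits R] {TP TQ : A ⥤ B} (eP : TP ≅ P.rightDerived 1)
    (eQ : TQ ≅ Q.rightDerived 1) (a : TP ⟶ TQ)
    (ha : a = eP.hom ≫ NatTrans.rightDerived α 1 ≫ eQ.inv) (M : A) :
    (ShortComplex.mk (δT α β w h eP M) (a.app M) (δT_comp α β w h eP eQ a ha M)).Exact := by
  refine (ShortComplex.exact_iff_of_iso (ShortComplex.isoMk
    (S₁ := ShortComplex.mk _ _ (δT_comp α β w h eP eQ a ha M))
    (S₂ := ShortComplex.mk _ _ (δ₀_comp α β w h M))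
    (Iso.refl _) (eP.app M) (eQ.app M) (by simp [δT]) (comm_left eP eQ _ a ha M))).mpr (exact₀' α β w h M)

end Fun

section Mapδ

omit [Abelian A] [HasInjectiveResolutions A] in
theorem map_eq_zero_of_injective_factor {T : A ⥤ B} {M N I : A} (hI : IsZero (T.obj I)) (f : M ⟶ I)
    (g : I ⟶ N) : T.map (f ≫ g) = 0 := by
  rw [T.map_comp, hI.eq_zero_of_tgt (T.map f), zero_comp]

end Mapδ

end K453.DerTransfer
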