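import Groth.Agent.Sga4h.FunLES
import Groth.Agent.Sga4h.LerayAcyc
import Groth.Agent.Cohder.RDLES

/-!
# The beginning of the long exact sequences of right derived functors, with `R⁰F` replaced by `F`

Everything is stated for abstract abelian categories, with degree `1` spelled `1`.
* `FunLES` setting (a short exact sequence of functors on injectives): `δ₀_comp`, `exact₀'`;
* object setting: `exists_les₀`, `exists_epi₀`.
-/

set_option autoImplicit false

open CategoryTheory CategoryTheory.Limits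

namespace K453.DerZero

universe v₁ v₂ u₁ u₂

open Groth.Agent.Sga4h

variable {A : Type u₁} {B : Type u₂} [Category.{v₁} A] [Category.{v₂} B] [Abelian A] [Abelian B]
  [HasInjectiveResolutions A]

section Fun

variable {P Q R : A ⥤ B} [P.Additive] [Q.Additive] [R.Additive] (α : P ⟶ Q) (β : Q ⟶ R)
  (w : ∀ M, α.app M ≫ β.app M = 0)
  (h : ∀ I : A, Injective I → (ShortComplex.mk (α.app I) (β.app I) (w I)).ShortExact)

theorem δ₀_comp (M : A) : FunLES.δ₀ α β w h M ≫ (NatTrans.rightDerived α 1).app M = 0 := by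
  have := FunLES.δ_comp α β w h M 0
  unfold FunLES.δ₀
  rw [Category.assoc]
  exact (congrArg (fun z => R.toRightDerivedZero.app M ≫ z) this).trans comp_zero

/-- Exactness of `R M ⟶ R^1 P M ⟶ R^1 Q M`. -/
theorem exact₀' [PreservesFiniteLimits R] (M : A) :
    (ShortComplex.mk (FunLES.δ₀ α β w h M) ((NatTrans.rightDerived α 1).app M) (δ₀_comp α β w h M)).Exact := by
  refine (ShortComplex.exact_iff_of_iso (ShortComplex.isoMk
    (S₁ := ShortComplex.mk (FunLES.δ₀ α β w h M) ((NatTrans.rightDerived α 1).app M) (δ₀_comp α β w h M))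
    (S₂ := ShortComplex.mk (FunLES.δ α β w h M 0) ((NatTrans.rightDerived α (0 + 1)).app M)
      (FunLES.δ_comp α β w h M 0))
    (asIso (R.toRightDerivedZero.app M)) (Iso.refl _) (Iso.refl _) ?_ ?_)).2
    (FunLES.exact₁ α β w h M 0)
  · exact (Category.comp_id _).symm
  · exact (Category.id_comp _).trans (Category.comp_id _).symm

end Fun

section Obj

variable (F : A ⥤ B) [F.Additive] [PreservesFiniteLimits F] {S : ShortComplex A} (hS : S.ShortExact)

include hS in
/-- `F X₂ ⟶ F X₃ ⟶ R¹F X₁ ⟶ R¹F X₂ ⟶ R¹F X₃` is exact -/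
theorem exists_les₀ : ∃ (δ : F.obj S.X₃ ⟶ (F.rightDerived 1).obj S.X₁) (w₁ : F.map S.g ≫ δ = 0)
    (w₂ : δ ≫ (F.rightDerived 1).map S.f = 0)
    (w₃ : (F.rightDerived 1).map S.f ≫ (F.rightDerived 1).map S.g = 0),
      (ShortComplex.mk _ _ w₁).Exact ∧ (ShortComplex.mk _ _ w₂).Exact ∧ (ShortComplex.mk _ _ w₃).Exact := by
  obtain ⟨-, h2, δ, hδ⟩ := Groth.Agent.Cohder.RDLES.exists_les F hS
  obtain ⟨v₁, v₂, e₁, e₂⟩ := hδ 0
  have w₁ : F.map S.g ≫ F.toRightDerivedZero.app S.X₃ ≫ δ 0 = 0 := by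
    rw [← Category.assoc, F.toRightDerivedZero.naturality, Category.assoc]
    exact (congrArg (fun z => F.toRightDerivedZero.app S.X₂ ≫ z) v₁).trans comp_zero
  have w₂ : (F.toRightDerivedZero.app S.X₃ ≫ δ 0) ≫ (F.rightDerived 1).map S.f = 0 := by
    rw [Category.assoc]
    exact (congrArg (fun z => F.toRightDerivedZero.app S.X₃ ≫ z) v₂).trans comp_zero
  have w₃ : (F.rightDerived 1).map S.f ≫ (F.rightDerived 1).map S.g = 0 := by
    have : (F.rightDerived 1).Additive := LerayAcyc.rightDerived_additive F 1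
    rw [← Functor.map_comp, S.zero, Functor.map_zero]
  refine ⟨F.toRightDerivedZero.app S.X₃ ≫ δ 0, w₁, w₂, w₃, ?_, ?_, h2 1 w₃⟩
  · refine (ShortComplex.exact_iff_of_iso (ShortComplex.isoMk
      (S₁ := ShortComplex.mk _ _ w₁) (S₂ := ShortComplex.mk _ _ v₁)
      (asIso (F.toRightDerivedZero.app S.X₂)) (asIso (F.toRightDerivedZero.app S.X₃)) (Iso.refl _) ?_ ?_)).mpr e₁
    · exact (F.toRightDerivedZero.naturality S.g).symm
    · exact (Category.comp_id _).symm
  · refine (ShortComplex.exact_iff_of_iso (ShortComplex.isoMk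
      (S₁ := ShortComplex.mk _ _ w₂) (S₂ := ShortComplex.mk _ _ v₂)
      (asIso (F.toRightDerivedZero.app S.X₃)) (Iso.refl _) (Iso.refl _) ?_ ?_)).mpr e₂
    · exact (Category.comp_id _).symm
    · exact (Category.id_comp _).trans (Category.comp_id _).symm

theorem map_zero (F : A ⥤ B) [F.Additive] (n : ℕ) (M N : A) : (F.rightDerived n).map (0 : M ⟶ N) = 0 := by
  have : (F.rightDerived n).Additive := LerayAcyc.rightDerived_additive F n
  exact Functor.map_zero _ _ _

end Obj

end K453.DerZero
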