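import Groth.Agent.AbSch.K453.HomShEx

/-!
# Exactness of the restriction functors between the sites of objects over `X`; instances

* `preservesFiniteLimits_over`, `preservesFiniteColimits_over` : `F ↦ F.over X`;
* `preservesFiniteLimits_overMap`, `preservesFiniteColimits_overMap` : `overMapPullback f`;
* `isGrothendieckAbelian`, `hasExt`, `enoughInjectives`, `hasInjectiveResolutions` for abelian sheaves on `(C, J)`,
  `C : Type (u+1)` with `Category.{u} C` (theorems, not instances).
-/

set_option autoImplicit false
universe u

open CategoryTheory CategoryTheory.Limits Opposite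

namespace K453.OverEx

open K453.SheafEx K453.HomShEx

variable {C : Type (u + 1)} [Category.{u} C] (J : GrothendieckTopology C)

omit J in
theorem essentiallySmall : EssentiallySmall.{u + 1} C := inferInstance

theorem isGrothendieckAbelian : IsGrothendieckAbelian.{u + 1} (Sheaf J AddCommGrpCat.{u + 1}) := by
  have := essentiallySmall (C := C)
  exact Sheaf.isGrothendieckAbelian_of_essentiallySmall _ _

theorem hasExt : HasExt.{u + 1} (Sheaf J AddCommGrpCat.{u + 1}) := by
  have := isGrothendieckAbelian J
  exact IsGrothendieckAbelian.hasExt (Sheaf J AddCommGrpCat.{u + 1})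

theorem hasInjectiveResolutions : HasInjectiveResolutions (Sheaf J AddCommGrpCat.{u + 1}) := by
  have := isGrothendieckAbelian J
  infer_instance

theorem enoughInjectives : EnoughInjectives (Sheaf J AddCommGrpCat.{u + 1}) := by
  have := isGrothendieckAbelian J
  infer_instance

instance exactLim_over (X : C) : PreservesFiniteLimits (J.overPullback AddCommGrpCat.{u + 1} X) := by
  have := ((J.overPullback AddCommGrpCat.{u + 1} X).exact_tfae.out 1 3).mp
    (fun S hS => exact_over X hS)
  exact this.1

instance exactColim_over (X : C) : PreservesFiniteColimits (J.overPullback AddCommGrpCat.{u + 1} X) := by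
  have := ((J.overPullback AddCommGrpCat.{u + 1} X).exact_tfae.out 1 3).mp
    (fun S hS => exact_over X hS)
  exact this.2

/-- restriction along `f : Y ⟶ X` is exact -/
theorem exact_overMap {X Y : C} (f : Y ⟶ X) {S : ShortComplex (Sheaf (J.over X) AddCommGrpCat.{u + 1})}
    (hS : S.Exact) : (S.map (J.overMapPullback AddCommGrpCat.{u + 1} f)).Exact := by
  refine (exact_iff_locally _).mpr fun U s hs => ?_
  obtain ⟨R, hR, hR'⟩ := (exact_iff_locally S).mp hS ((Over.map f).obj U) s hs
  have hR1 : Sieve.overEquiv _ R ∈ J _ := (J.mem_over_iff _).mp hR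
  refine ⟨(Sieve.overEquiv U).symm (Sieve.overEquiv ((Over.map f).obj U) R), 
    J.overEquiv_symm_mem_over U _ hR1, fun V g hg => ?_⟩
  have h1 := (Sieve.overEquiv_symm_iff _ _).mp hg
  have h2 := (Sieve.overEquiv_iff _ _).mp h1
  have h3 : R ((Over.map f).map g) := by
    have w : 𝟙 V.left ≫ g.left ≫ U.hom ≫ f = V.hom ≫ f := by simp
    have e : (Over.map f).map g = Over.homMk (U := (Over.map f).obj V)
        (V := Over.mk (g.left ≫ ((Over.map f).obj U).hom)) (𝟙 V.left) w ≫
        Over.homMk (V := (Over.map f).obj U) g.left rfl := by
      apply Over.OverMorphism.ext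
      exact (Category.id_comp _).symm
    rw [e]
    exact R.downward_closed h2 _
  exact hR' _ h3

instance exactLim_overMap {X Y : C} (f : Y ⟶ X) :
    PreservesFiniteLimits (J.overMapPullback AddCommGrpCat.{u + 1} f) := by
  have := ((J.overMapPullback AddCommGrpCat.{u + 1} f).exact_tfae.out 1 3).mp
    (fun S hS => exact_overMap J f hS)
  exact this.1

instance exactColim_overMap {X Y : C} (f : Y ⟶ X) :
    PreservesFiniteColimits (J.overMapPullback AddCommGrpCat.{u + 1} f) := by
  have := ((J.overMapPullback AddCommGrpCat.{u + 1} f).exact_tfae.out 1 3).mp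
    (fun S hS => exact_overMap J f hS)
  exact this.2

end K453.OverEx
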