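import Groth.Agent.AbSch.K453.ExtShLES
import Groth.Agent.AbSch.K453.OverEx
import Groth.Agent.AbSch.K453.ExtLift

/-!
# The sheaf `𝓔xt¹(F, G)` in terms of local extensions

Site `(C, J)` with `C : Type (u+1)`, `Category.{u} C`.
* `cls J F G X : Ext¹(F.over X, G.over X) →+ 𝓔xt¹(F, G)(X)`, `res J f` restriction of classes, `cls_res`;
* `exists_locally`: sections of `𝓔xt¹(F, G)` are locally classes of extensions;
* `cls_eq_zero_iff`: kernel of `cls` = locally zero classes; `isZero_extSh_iff`, `isZero_extSh_iff'`;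
* `clsE`: the section attached to `0 → G.over X → E → F.over X → 0`, `res_extClass`, `clsE_eq_zero_iff`.
-/

set_option autoImplicit false
universe u

open CategoryTheory CategoryTheory.Limits Opposite CategoryTheory.Abelian

noncomputable section

namespace K453.ExtLoc

open K453.SheafEx HomSh K453.HomShEx K453.ExtShLES K453.OverEx K453.ExtLift

variable {C : Type (u + 1)} [Category.{u} C] (J : GrothendieckTopology C)

attribute [local instance] hasExt hasInjectiveResolutions enoughInjectives

section Emb

variable (G : Sheaf J AddCommGrpCat.{u + 1})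

/-- a short exact sequence `0 → G → I → Q → 0` with `I` injective -/
def emb : ShortComplex (Sheaf J AddCommGrpCat.{u + 1}) :=
  ShortComplex.mk (Injective.ι G) (cokernel.π (Injective.ι G)) (cokernel.condition _)

theorem shortExact_emb : (emb J G).ShortExact :=
  { exact := ShortComplex.exact_cokernel (Injective.ι G)
    mono_f := inferInstanceAs (Mono (Injective.ι G))
    epi_g := inferInstanceAs (Epi (cokernel.π _)) }

instance injective_emb : Injective (emb J G).X₂ := inferInstanceAs (Injective (Injective.under G))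

variable (X : C)

/-- its restriction to `Over X` -/
abbrev embX : ShortComplex (Sheaf (J.over X) AddCommGrpCat.{u + 1}) :=
  (emb J G).map (J.overPullback AddCommGrpCat.{u + 1} X)

theorem shortExact_embX : (embX J G X).ShortExact := shortExact_over X (shortExact_emb J G)

instance injective_embX : Injective (embX J G X).X₂ := injective_over J X (emb J G).X₂

end Emb

variable (F G : Sheaf J AddCommGrpCat.{u + 1})

/-- the connecting morphism `𝓗om(F, Q) ⟶ 𝓔xt¹(F, G)` -/
def δ : homSh J F (emb J G).X₃ ⟶ (extSh J F 1).obj G := (exists_δR J F (shortExact_emb J G)).choose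

theorem g_δ : homShMap J (𝟙 F) (emb J G).g ≫ δ J F G = 0 :=
  (exists_δR J F (shortExact_emb J G)).choose_spec.choose

theorem δ_f : δ J F G ≫ (extSh J F 1).map (emb J G).f = 0 :=
  (exists_δR J F (shortExact_emb J G)).choose_spec.choose_spec.choose

theorem exact_δ : (ShortComplex.mk _ _ (g_δ J F G)).Exact :=
  (exists_δR J F (shortExact_emb J G)).choose_spec.choose_spec.choose_spec.1

theorem epi_δ : Epi (δ J F G) :=
  epi_of_injective J F (emb J G) (δ J F G) (δ_f J F G)
    (exists_δR J F (shortExact_emb J G)).choose_spec.choose_spec.choose_spec.2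

/-- the connecting map on sections -/
def d (X : C) : (F.over X ⟶ (embX J G X).X₃) →+ ((extSh J F 1).obj G).obj.obj (op X) :=
  ((δ J F G).hom.app (op X)).hom

theorem d_g (X : C) (ψ : F.over X ⟶ (embX J G X).X₂) : d J F G X (ψ ≫ (embX J G X).g) = 0 := by
  have h1 := congrArg (fun z => z.hom.app (op X)) (g_δ J F G)
  have h2 := ConcreteCategory.congr_hom h1 ψ
  refine Eq.trans ?_ h2
  exact congrArg (fun z => (δ J F G).hom.app (op X) z) (app_right (emb J G).g X ψ).symm

/-- The section of `𝓔xt¹(F, G)` over `X` given by an extension class over `X`. -/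
def cls (X : C) : Ext.{u + 1} (F.over X) (G.over X) 1 →+ ((extSh J F 1).obj G).obj.obj (op X) :=
  lift (shortExact_embX J G X) (F.over X) (d J F G X) (d_g J F G X)

theorem cls_conn (X : C) (φ : F.over X ⟶ (embX J G X).X₃) :
    cls J F G X (conn (shortExact_embX J G X) (F.over X) φ) = d J F G X φ :=
  lift_conn _ _ _ _ _

section Restrict

variable {F G} {X Y : C} (f : Y ⟶ X)

/-- restriction of extension classes -/
def res : Ext.{u + 1} (F.over X) (G.over X) 1 →+ Ext.{u + 1} (F.over Y) (G.over Y) 1 :=
  (J.overMapPullback AddCommGrpCat.{u + 1} f).mapExtAddHom (F.over X) (G.over X) 1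

theorem res_conn (φ : F.over X ⟶ (embX J G X).X₃) :
    res J f (conn (shortExact_embX J G X) (F.over X) φ) =
      conn (shortExact_embX J G Y) (F.over Y) ((J.overMapPullback AddCommGrpCat.{u + 1} f).map φ) :=
  map_conn (J.overMapPullback AddCommGrpCat.{u + 1} f) (shortExact_embX J G X) (F.over X) φ

theorem d_map (φ : F.over X ⟶ (embX J G X).X₃) :
    ((extSh J F 1).obj G).obj.map f.op (d J F G X φ) =
      d J F G Y ((J.overMapPullback AddCommGrpCat.{u + 1} f).map φ) :=
  (ConcreteCategory.congr_hom ((δ J F G).hom.naturality f.op) φ).symm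

/-- `cls` is compatible with restriction. -/
theorem cls_res (e : Ext.{u + 1} (F.over X) (G.over X) 1) :
    cls J F G Y (res J f e) = ((extSh J F 1).obj G).obj.map f.op (cls J F G X e) := by
  obtain ⟨φ, rfl⟩ := conn_surjective (shortExact_embX J G X) (F.over X) e
  refine (congrArg (cls J F G Y) (res_conn J f φ)).trans ((cls_conn J F G Y _).trans ?_)
  refine (d_map J f φ).symm.trans (congrArg (fun z => ((extSh J F 1).obj G).obj.map f.op z) ?_)
  exact (cls_conn J F G X φ).symm

end Restrict

variable {F G}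

/-- Locally, every section of `𝓔xt¹(F, G)` is the class of an extension. -/
theorem exists_locally (X : C) (s : ((extSh J F 1).obj G).obj.obj (op X)) :
    ∃ R ∈ J X, ∀ ⦃Y : C⦄ (f : Y ⟶ X), R f → ∃ e : Ext.{u + 1} (F.over Y) (G.over Y) 1,
      cls J F G Y e = ((extSh J F 1).obj G).obj.map f.op s := by
  obtain ⟨R, hR, h⟩ := (epi_iff_locally _).mp (epi_δ J F G) X s
  refine ⟨R, hR, fun Y f hf => ?_⟩
  obtain ⟨φ, hφ⟩ := h f hf
  exact ⟨conn (shortExact_embX J G Y) (F.over Y) φ, (cls_conn J F G Y φ).trans hφ⟩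

/-- The section attached to an extension class is zero iff the class is locally zero. -/
theorem cls_eq_zero_iff (X : C) (e : Ext.{u + 1} (F.over X) (G.over X) 1) :
    cls J F G X e = 0 ↔ ∃ R ∈ J X, ∀ ⦃Y : C⦄ (f : Y ⟶ X), R f → res J f e = 0 := by
  constructor
  · intro h
    obtain ⟨φ, rfl⟩ := conn_surjective (shortExact_embX J G X) (F.over X) e
    have h1 : d J F G X φ = 0 := (cls_conn J F G X φ).symm.trans h
    obtain ⟨R, hR, h2⟩ := (exact_iff_locally _).mp (exact_δ J F G) X φ h1
    refine ⟨R, hR, fun Y f hf => ?_⟩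
    obtain ⟨ψ, hψ⟩ := h2 f hf
    refine (res_conn J f φ).trans ((conn_eq_zero_iff _ _ _).mpr ⟨ψ, ?_⟩)
    exact (app_right (emb J G).g Y ψ).symm.trans hψ
  · rintro ⟨R, hR, h⟩
    refine eq_zero_of_locally _ _ R hR fun Y f hf => ?_
    rw [← cls_res, h f hf, map_zero]

/-- `𝓔xt¹(F, G) = 0` iff all extension classes are locally zero. -/
theorem isZero_extSh_iff : IsZero ((extSh J F 1).obj G) ↔
    ∀ (X : C) (e : Ext.{u + 1} (F.over X) (G.over X) 1), ∃ R ∈ J X, ∀ ⦃Y : C⦄ (f : Y ⟶ X), R f → res J f e = 0 := by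
  rw [isZero_iff_sections]
  constructor
  · intro h X e
    exact (cls_eq_zero_iff J X e).mp (h X _)
  · intro h X s
    obtain ⟨R, hR, h1⟩ := exists_locally J X s
    refine eq_zero_of_locally _ _ R hR fun Y f hf => ?_
    obtain ⟨e, he⟩ := h1 f hf
    rw [← he]
    exact (cls_eq_zero_iff J Y e).mpr (h Y e)

section Extension

variable {X : C} {E : Sheaf (J.over X) AddCommGrpCat.{u + 1}} (i : G.over X ⟶ E) (p : E ⟶ F.over X) (w : i ≫ p = 0)
  (h : (ShortComplex.mk i p w).ShortExact)

/-- The section of `𝓔xt¹(F, G)` over `X` given by an extension `0 → G.over X → E → F.over X → 0`. -/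
def clsE : ((extSh J F 1).obj G).obj.obj (op X) := cls J F G X h.extClass

/-- the restriction of the class is the class of the restriction -/
theorem res_extClass {Y : C} (f : Y ⟶ X) :
    res J f (h.extClass : Ext.{u + 1} (F.over X) (G.over X) 1) =
      (h.map_of_exact (J.overMapPullback AddCommGrpCat.{u + 1} f)).extClass :=
  Ext.mapExactFunctor_extClass (J.overMapPullback AddCommGrpCat.{u + 1} f) h

/-- the class of an extension is zero iff the extension is split locally -/
theorem clsE_eq_zero_iff : clsE J i p w h = 0 ↔ ∃ R ∈ J X, ∀ ⦃Y : C⦄ (f : Y ⟶ X), R f →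
    ∃ s : F.over Y ⟶ (J.overMapPullback AddCommGrpCat.{u + 1} f).obj E,
      s ≫ (J.overMapPullback AddCommGrpCat.{u + 1} f).map p = 𝟙 _ := by
  refine (cls_eq_zero_iff J X _).trans ?_
  refine exists_congr fun R => and_congr_right fun hR => forall_congr' fun Y => forall_congr' fun f =>
    imp_congr_right fun hf => ?_
  refine (Eq.congr_left (res_extClass J i p w h f)).trans ?_
  exact extClass_eq_zero_iff _

end Extension

/-- `𝓔xt¹(F, G) = 0` iff all extensions of `F.over X` by `G.over X` are locally split. -/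
theorem isZero_extSh_iff' : IsZero ((extSh J F 1).obj G) ↔
    ∀ (X : C) (E : Sheaf (J.over X) AddCommGrpCat.{u + 1}) (i : G.over X ⟶ E) (p : E ⟶ F.over X) (w : i ≫ p = 0)
      (_ : (ShortComplex.mk i p w).ShortExact), ∃ R ∈ J X, ∀ ⦃Y : C⦄ (f : Y ⟶ X), R f →
      ∃ s : F.over Y ⟶ (J.overMapPullback AddCommGrpCat.{u + 1} f).obj E,
        s ≫ (J.overMapPullback AddCommGrpCat.{u + 1} f).map p = 𝟙 _ := by
  rw [isZero_extSh_iff]
  constructor
  · intro hz X E i p w h
    exact (clsE_eq_zero_iff J i p w h).mp ((cls_eq_zero_iff J X _).mpr (hz X h.extClass))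
  · intro hz X e
    obtain ⟨E, i, p, w, h, he⟩ := exists_extension e
    refine (cls_eq_zero_iff J X e).mp ?_
    rw [← he]
    exact (clsE_eq_zero_iff J i p w h).mpr (hz X E i p w h)

end K453.ExtLoc
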