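import Groth.Agent.AbSch.K453.HomShEx
import Groth.Agent.AbSch.K453.DerTransfer

/-!
# The long exact sequences of the local Ext sheaves `HomSh.extSh` in both variables

Site `(C, J)` with `C : Type (u+1)`, `Category.{u} C`.
* `extIso`: `𝓔xtⁿ(F, -) ≅ Rⁿ𝓗om(F, -)`; `extShMap_eq`; `extZeroIso`: `𝓔xt⁰ ≅ 𝓗om`;
* `isZero_extSh_injective`, `isZero_extSh_one_injective`;
* second variable: `right_zero`, `right_exact₂`, `exists_δR` (`𝓗om(F,G₂) → 𝓗om(F,G₃) → 𝓔xt¹(F,G₁) → 𝓔xt¹(F,G₂)`);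
* first variable: `left_zero`, `left_exact₂`, `δL` with `left_exact₃` (`𝓗om(X₂,M) → 𝓗om(X₁,M) → 𝓔xt¹(X₃,M)`) and
  `left_exact₁` (`𝓗om(X₁,M) → 𝓔xt¹(X₃,M) → 𝓔xt¹(X₂,M)`).
-/

set_option autoImplicit false
universe u

open CategoryTheory CategoryTheory.Limits Opposite

namespace K453.ExtShLES

open K453.SheafEx HomSh K453.HomShEx Groth.Agent.Sga4h K453.DerTransfer

variable {C : Type (u + 1)} [Category.{u} C] (J : GrothendieckTopology C)
  [HasInjectiveResolutions (Sheaf J AddCommGrpCat.{u + 1})]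

/-- the defining isomorphism of `extSh` -/
noncomputable def extIso (F : Sheaf J AddCommGrpCat.{u + 1}) (n : ℕ) :
    extSh J F n ≅ (homShFunctor J F).rightDerived n := eqToIso (extSh_def J F n)

theorem extShMap_eq {F F' : Sheaf J AddCommGrpCat.{u + 1}} (α : F' ⟶ F) (n : ℕ) :
    extShMap J α n = (extIso J F n).hom ≫
      NatTrans.rightDerived ((homShBi J).map α.op) n ≫ (extIso J F' n).inv :=
  eqToHom_conj (extSh_def J F n) (extSh_def J F' n) (NatTrans.rightDerived ((homShBi J).map α.op) n)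

theorem isZero_extSh_injective (F : Sheaf J AddCommGrpCat.{u + 1}) (n : ℕ) (I : Sheaf J AddCommGrpCat.{u + 1})
    [Injective I] : IsZero ((extSh J F (n + 1)).obj I) :=
  isZero_of_injective (homShFunctor J F) n _ (extIso J F (n + 1)) I

theorem isZero_extSh_one_injective (F : Sheaf J AddCommGrpCat.{u + 1}) (I : Sheaf J AddCommGrpCat.{u + 1})
    [Injective I] : IsZero ((extSh J F 1).obj I) :=
  isZero_of_injective_one (homShFunctor J F) _ (extIso J F 1) I

/-- `𝓔xt⁰ = 𝓗om` -/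
noncomputable def extZeroIso (F : Sheaf J AddCommGrpCat.{u + 1}) : extSh J F 0 ≅ homShFunctor J F :=
  zeroIso (homShFunctor J F) _ (extIso J F 0)

section Right

variable (F : Sheaf J AddCommGrpCat.{u + 1}) (n : ℕ) {S : ShortComplex (Sheaf J AddCommGrpCat.{u + 1})}

instance extSh_additive : (extSh J F n).Additive := additive_of_iso (homShFunctor J F) _ n (extIso J F n)

theorem right_zero : (extSh J F n).map S.f ≫ (extSh J F n).map S.g = 0 :=
  obj_comp_zero (homShFunctor J F) _ n (extIso J F n)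

/-- `𝓔xtⁿ(F, G₁) → 𝓔xtⁿ(F, G₂) → 𝓔xtⁿ(F, G₃)` is exact -/
theorem right_exact₂ (hS : S.ShortExact) :
    (ShortComplex.mk ((extSh J F n).map S.f) ((extSh J F n).map S.g) (right_zero J F n)).Exact :=
  obj_exact (homShFunctor J F) _ n (extIso J F n) hS _

/-- `𝓗om(F, G₂) → 𝓗om(F, G₃) → 𝓔xt¹(F, G₁) → 𝓔xt¹(F, G₂)` is exact -/
theorem exists_δR (hS : S.ShortExact) :
    ∃ (δ : homSh J F S.X₃ ⟶ (extSh J F 1).obj S.X₁) (w₁ : homShMap J (𝟙 F) S.g ≫ δ = 0)
      (w₂ : δ ≫ (extSh J F 1).map S.f = 0),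
      (ShortComplex.mk _ _ w₁).Exact ∧ (ShortComplex.mk _ _ w₂).Exact :=
  exists_obj (homShFunctor J F) _ (extIso J F 1) hS

/-- for `0 → G → I → Q → 0` with `I` injective, `𝓗om(F, Q) → 𝓔xt¹(F, G)` is an epimorphism -/
theorem epi_of_injective (S : ShortComplex (Sheaf J AddCommGrpCat.{u + 1})) [Injective S.X₂]
    (δ : homSh J F S.X₃ ⟶ (extSh J F 1).obj S.X₁) (w₂ : δ ≫ (extSh J F 1).map S.f = 0)
    (h₂ : (ShortComplex.mk _ _ w₂).Exact) : Epi δ :=
  h₂.epi_f ((isZero_extSh_one_injective J F S.X₂).eq_of_tgt _ _)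

end Right

section Left

variable {S : ShortComplex (Sheaf J AddCommGrpCat.{u + 1})} (n : ℕ) (M : Sheaf J AddCommGrpCat.{u + 1})

/-- the transformation `𝓗om(X₃, -) ⟶ 𝓗om(X₂, -)` -/
noncomputable abbrev homα (S : ShortComplex (Sheaf J AddCommGrpCat.{u + 1})) :
    homShFunctor J S.X₃ ⟶ homShFunctor J S.X₂ := (homShBi J).map S.g.op

/-- the transformation `𝓗om(X₂, -) ⟶ 𝓗om(X₁, -)` -/
noncomputable abbrev homβ (S : ShortComplex (Sheaf J AddCommGrpCat.{u + 1})) :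
    homShFunctor J S.X₂ ⟶ homShFunctor J S.X₁ := (homShBi J).map S.f.op

theorem homα_homβ (S : ShortComplex (Sheaf J AddCommGrpCat.{u + 1})) (M : Sheaf J AddCommGrpCat.{u + 1}) :
    (homα J S).app M ≫ (homβ J S).app M = 0 := homShMap_zero_comp _ _ S.zero

theorem shortExact_hom (hS : S.ShortExact) (I : Sheaf J AddCommGrpCat.{u + 1}) (hI : Injective I) :
    (ShortComplex.mk ((homα J S).app I) ((homβ J S).app I) (homα_homβ J S I)).ShortExact :=
  shortExact_homSh_injective I S hS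

theorem left_zero : (extShMap J S.g n).app M ≫ (extShMap J S.f n).app M = 0 :=
  fun_comp_zero (homα J S) (homβ J S) (homα_homβ J S) n (extIso J _ n) (extIso J _ n) (extIso J _ n)
    _ _ (extShMap_eq J S.g n) (extShMap_eq J S.f n) M

/-- `𝓔xtⁿ(X₃, M) → 𝓔xtⁿ(X₂, M) → 𝓔xtⁿ(X₁, M)` is exact -/
theorem left_exact₂ (hS : S.ShortExact) :
    (ShortComplex.mk ((extShMap J S.g n).app M) ((extShMap J S.f n).app M) (left_zero J n M)).Exact :=
  fun_exact (homα J S) (homβ J S) (homα_homβ J S) (shortExact_hom J hS) n (extIso J _ n) (extIso J _ n)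
    (extIso J _ n) _ _ (extShMap_eq J S.g n) (extShMap_eq J S.f n) M _

/-- the connecting morphism `𝓗om(X₁, M) ⟶ 𝓔xt¹(X₃, M)` -/
noncomputable def δL (hS : S.ShortExact) : homSh J S.X₁ M ⟶ (extSh J S.X₃ 1).obj M :=
  δT (homα J S) (homβ J S) (homα_homβ J S) (shortExact_hom J hS) (extIso J S.X₃ 1) M

theorem comp_δL (hS : S.ShortExact) : homShMap J S.f (𝟙 M) ≫ δL J M hS = 0 :=
  comp_δT (homα J S) (homβ J S) (homα_homβ J S) (shortExact_hom J hS) (extIso J S.X₃ 1) M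

theorem δL_comp (hS : S.ShortExact) : δL J M hS ≫ (extShMap J S.g 1).app M = 0 :=
  δT_comp (homα J S) (homβ J S) (homα_homβ J S) (shortExact_hom J hS) (extIso J S.X₃ 1) (extIso J S.X₂ 1)
    _ (extShMap_eq J S.g 1) M

/-- `𝓗om(X₂, M) → 𝓗om(X₁, M) → 𝓔xt¹(X₃, M)` is exact -/
theorem left_exact₃ (hS : S.ShortExact) :
    (ShortComplex.mk (homShMap J S.f (𝟙 M)) (δL J M hS) (comp_δL J M hS)).Exact :=
  δT_exact₁ (homα J S) (homβ J S) (homα_homβ J S) (shortExact_hom J hS) (extIso J S.X₃ 1) M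

/-- `𝓗om(X₁, M) → 𝓔xt¹(X₃, M) → 𝓔xt¹(X₂, M)` is exact -/
theorem left_exact₁ (hS : S.ShortExact) :
    (ShortComplex.mk (δL J M hS) ((extShMap J S.g 1).app M) (δL_comp J M hS)).Exact :=
  δT_exact₂ (homα J S) (homβ J S) (homα_homβ J S) (shortExact_hom J hS) (extIso J S.X₃ 1) (extIso J S.X₂ 1)
    _ (extShMap_eq J S.g 1) M

end Left

end K453.ExtShLES
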