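import Groth.Agent.AbSch.K453.ExtLoc
import Groth.Agent.AbSch.K453.Slice
import Mathlib.Algebra.Homology.DerivedCategory.Ext.MapBijective

/-!
# `𝓔xt¹` of sheaves of points of commutative group schemes, in terms of base changes

`K` a precoverage, `G H : Over S` commutative group schemes.
* `cmp`: restriction to `Y` and then to `Z → Y` is restriction to `Z`;
* `toExtS`: `Ext¹((pts G).over Y, (pts H).over Y) →+ Ext¹(pts G_Y, pts H_Y)` injective (`toExtS_injective`);
* `isZero_extSh_pts`: criterion for `𝓔xt¹(pts G, pts H) = 0` by local splitness of extensions over schemes `Y → S`.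
-/

set_option autoImplicit false
universe u
open CategoryTheory CategoryTheory.Limits MonoidalCategory CartesianMonoidalCategory MonObj AlgebraicGeometry
open CGrpSh Opposite CategoryTheory.Abelian

noncomputable section

namespace K453.ExtSlice

open K453.SheafEx K453.HomShEx K453.Slice K453.OverEx K453.ExtLoc K453.ExtLift

attribute [local instance] hasExt hasInjectiveResolutions enoughInjectives

variable (K : Precoverage Scheme.{u}) {S : Scheme.{u}}

section Cmp

variable {Y Z : Over S} (f : Z ⟶ Y)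

/-- comparison of the index functors -/
def idx : Z.iteratedSliceBackward ⋙ Over.map f ≅
    (Over.mk f.left).iteratedSliceBackward ⋙ Over.forget _ ⋙ Y.iteratedSliceBackward :=
  NatIso.ofComponents (fun V => Over.isoMk (Over.isoMk (Iso.refl V.left) (by
      change 𝟙 _ ≫ (V.hom ≫ f.left) ≫ Y.hom = V.hom ≫ Z.hom
      rw [Category.id_comp, Category.assoc, Over.w])) (by
      apply Over.OverMorphism.ext
      change 𝟙 _ ≫ (V.hom ≫ f.left) = V.hom ≫ f.left
      rw [Category.id_comp])) (fun {V V'} g => by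
      apply Over.OverMorphism.ext
      apply Over.OverMorphism.ext
      change g.left ≫ 𝟙 _ = 𝟙 _ ≫ g.left
      rw [Category.id_comp, Category.comp_id])

/-- restriction to `Y` and then to `Z → Y` is restriction to `Z` -/
def cmp (E : Sheaf ((QuotSh.J K S).over Y) AddCommGrpCat.{u + 1}) :
    (restr K (Over.mk f.left)).obj ((res K Y).obj E) ≅
      (res K Z).obj (((QuotSh.J K S).overMapPullback AddCommGrpCat.{u + 1} f).obj E) :=
  (fullyFaithfulSheafToPresheaf _ _).preimageIso (Functor.isoWhiskerRight (NatIso.op (idx f)) E.obj)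

theorem cmp_naturality {E E' : Sheaf ((QuotSh.J K S).over Y) AddCommGrpCat.{u + 1}} (g : E ⟶ E') :
    (restr K (Over.mk f.left)).map ((res K Y).map g) ≫ (cmp K f E').hom =
      (cmp K f E).hom ≫ (res K Z).map (((QuotSh.J K S).overMapPullback AddCommGrpCat.{u + 1} f).map g) := by
  apply Sheaf.hom_ext
  apply NatTrans.ext
  funext V
  exact (g.hom.naturality _).symm

end Cmp

section ToExtS

variable (Y : Over S) [(QuotSh.J K S).Subcanonical] [(QuotSh.J K Y.left).Subcanonical]
  (G H : Over S) [GrpObj G] [IsCommMonObj G] [GrpObj H] [IsCommMonObj H]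

/-- Extension classes over the site of objects over `Y` as extension classes on the big site of `Y.left`. -/
def toExtS : Ext.{u + 1} ((pts K G).over Y) ((pts K H).over Y) 1 →+
    ExtS K (Red.bc Y.hom G) (Red.bc Y.hom H) 1 :=
  (conj (ptsIso K Y G).symm (ptsIso K Y H)).comp
    ((res K Y).mapExtAddHom ((pts K G).over Y) ((pts K H).over Y) 1)

theorem toExtS_injective : Function.Injective (toExtS K Y G H) := by
  refine (injective_iff_map_eq_zero _).mpr fun e he => ?_
  refine eq_zero_of_map (res K Y) e ?_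
  exact (injective_iff_map_eq_zero _).mp (conj_injective (ptsIso K Y G).symm (ptsIso K Y H)) _ he

end ToExtS

section Crit

variable (Y : Over S) [(QuotSh.J K S).Subcanonical] [(QuotSh.J K Y.left).Subcanonical]
  {G H : Over S} [GrpObj G] [IsCommMonObj G] [GrpObj H] [IsCommMonObj H]

section Tr

variable {K Y} {E : Sheaf ((QuotSh.J K S).over Y) AddCommGrpCat.{u + 1}} (i : (pts K H).over Y ⟶ E)
  (p : E ⟶ (pts K G).over Y) (w : i ≫ p = 0) (hE : (ShortComplex.mk i p w).ShortExact)

/-- an extension over the site of `Y`, as an extension of sheaves of points on the big site of `Y.left` -/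
abbrev trI : pts K (Red.bc Y.hom H) ⟶ (res K Y).obj E := (ptsIso K Y H).inv ≫ (res K Y).map i

/-- an extension over the site of `Y`, as an extension of sheaves of points on the big site of `Y.left` -/
abbrev trP : (res K Y).obj E ⟶ pts K (Red.bc Y.hom G) := (res K Y).map p ≫ (ptsIso K Y G).hom

include w in
theorem trI_trP : trI i ≫ trP p = 0 := by
  rw [Category.assoc, ← Category.assoc ((res K Y).map i), ← (res K Y).map_comp, w, Functor.map_zero, zero_comp,
    comp_zero]

include hE in
theorem shortExact_tr : (ShortComplex.mk (trI i) (trP p) (trI_trP i p w)).ShortExact := by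
  refine ShortComplex.shortExact_of_iso (ShortComplex.isoMk (S₁ := (ShortComplex.mk i p w).map (res K Y))
    (S₂ := ShortComplex.mk (trI i) (trP p) (trI_trP i p w))
    (ptsIso K Y H) (Iso.refl _) (ptsIso K Y G) ?_ ?_) (shortExact_res K Y hE)
  · change (ptsIso K Y H).hom ≫ (ptsIso K Y H).inv ≫ (res K Y).map i = (res K Y).map i ≫ 𝟙 _
    rw [Iso.hom_inv_id_assoc, Category.comp_id]
  · exact Category.id_comp _

/-- transfer of a splitting -/
theorem exists_splitting {Z : Over S} (f : Z ⟶ Y)
    (s : (restr K (Over.mk f.left)).obj (pts K (Red.bc Y.hom G)) ⟶ (restr K (Over.mk f.left)).obj ((res K Y).obj E))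
    (hs : s ≫ (restr K (Over.mk f.left)).map (trP p) = 𝟙 _) :
    ∃ t : (pts K G).over Z ⟶ ((QuotSh.J K S).overMapPullback AddCommGrpCat.{u + 1} f).obj E,
      t ≫ ((QuotSh.J K S).overMapPullback AddCommGrpCat.{u + 1} f).map p = 𝟙 _ := by
  let t₀ : (res K Z).obj (((QuotSh.J K S).overMapPullback AddCommGrpCat.{u + 1} f).obj ((pts K G).over Y)) ⟶
      (res K Z).obj (((QuotSh.J K S).overMapPullback AddCommGrpCat.{u + 1} f).obj E) :=
    (cmp K f ((pts K G).over Y)).inv ≫ (restr K (Over.mk f.left)).map (ptsIso K Y G).hom ≫ s ≫ (cmp K f E).hom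
  have h1 : t₀ ≫ (res K Z).map (((QuotSh.J K S).overMapPullback AddCommGrpCat.{u + 1} f).map p) = 𝟙 _ := by
    have h2 : ((restr K (Over.mk f.left)).map (ptsIso K Y G).hom ≫ s) ≫
        (restr K (Over.mk f.left)).map ((res K Y).map p) = 𝟙 _ := by
      rw [← cancel_mono ((restr K (Over.mk f.left)).map (ptsIso K Y G).hom)]
      have h3 : (restr K (Over.mk f.left)).map ((res K Y).map p) ≫
        (restr K (Over.mk f.left)).map (ptsIso K Y G).hom = (restr K (Over.mk f.left)).map (trP p) :=
        ((restr K (Over.mk f.left)).map_comp _ _).symm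
      rw [Category.assoc, h3, Category.assoc, hs, Category.comp_id, Category.id_comp]
    have h4 := cmp_naturality K f p
    rw [Category.assoc, Category.assoc, Category.assoc, ← h4]
    rw [← Category.assoc s, ← Category.assoc ((restr K (Over.mk f.left)).map (ptsIso K Y G).hom), 
      ← Category.assoc ((restr K (Over.mk f.left)).map (ptsIso K Y G).hom), h2, Category.id_comp, Iso.inv_hom_id]
  refine ⟨(res K Z).preimage t₀, (res K Z).map_injective ?_⟩
  rw [Functor.map_comp, Functor.map_preimage]
  exact h1.trans ((res K Z).map_id _).symm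

end Tr

end Crit

/-- `𝓔xt¹(pts G, pts H) = 0` if over every `Y → S` the extensions of `G_Y` by `H_Y` are locally split. -/
theorem isZero_extSh_pts [∀ T : Scheme.{u}, (QuotSh.J K T).Subcanonical] (G H : Over S)
    [GrpObj G] [IsCommMonObj G] [GrpObj H] [IsCommMonObj H]
    (h : ∀ (Y : Over S) (E : BigSite.Ab K Y.left) (i : pts K (Red.bc Y.hom H) ⟶ E)
      (p : E ⟶ pts K (Red.bc Y.hom G)) (w : i ≫ p = 0) (_ : (ShortComplex.mk i p w).ShortExact),
      ∃ R ∈ K.toGrothendieck Y.left, ∀ ⦃Z : Scheme.{u}⦄ (f : Z ⟶ Y.left), R f →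
        ∃ s : (restr K (Over.mk f)).obj (pts K (Red.bc Y.hom G)) ⟶ (restr K (Over.mk f)).obj E,
          s ≫ (restr K (Over.mk f)).map p = 𝟙 _) :
    IsZero ((HomSh.extSh (QuotSh.J K S) (pts K G) 1).obj (pts K H)) := by
  refine (isZero_extSh_iff' _).mpr fun Y E i p w hE => ?_
  obtain ⟨R, hR, h1⟩ := h Y _ _ _ _ (shortExact_tr i p w hE)
  refine ⟨(Sieve.overEquiv Y).symm R, GrothendieckTopology.overEquiv_symm_mem_over _ Y R hR, fun Z f hf => ?_⟩
  obtain ⟨s, hs⟩ := h1 f.left ((Sieve.overEquiv_symm_iff _ _).mp hf)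
  exact exists_splitting p f s hs

/-- `𝓔xt¹(pts G, pts H) = 0` if over every `Y → S` the extensions of `G_Y` by `H_Y` are split. -/
theorem isZero_extSh_pts' [∀ T : Scheme.{u}, (QuotSh.J K T).Subcanonical] (G H : Over S)
    [GrpObj G] [IsCommMonObj G] [GrpObj H] [IsCommMonObj H]
    (h : ∀ (Y : Over S) (E : BigSite.Ab K Y.left) (i : pts K (Red.bc Y.hom H) ⟶ E)
      (p : E ⟶ pts K (Red.bc Y.hom G)) (w : i ≫ p = 0) (_ : (ShortComplex.mk i p w).ShortExact),
        ∃ s : pts K (Red.bc Y.hom G) ⟶ E, s ≫ p = 𝟙 _) :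
    IsZero ((HomSh.extSh (QuotSh.J K S) (pts K G) 1).obj (pts K H)) := by
  refine isZero_extSh_pts K G H fun Y E i p w hE => ⟨⊤, GrothendieckTopology.top_mem _ _, fun Z f _ => ?_⟩
  obtain ⟨s, hs⟩ := h Y E i p w hE
  refine ⟨(restr K (Over.mk f)).map s, ?_⟩
  rw [← Functor.map_comp, hs]
  exact CategoryTheory.Functor.map_id _ _

end K453.ExtSlice
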