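import Groth.Prelude.Def_CGrpSh2
import Groth.Agent.AbSch.K453.SheafEx
import Groth.Agent.CohtopA.OverInj
import Groth.Agent.Sga4h.FunLES
import Groth.Agent.Cohder.RDLES

/-!
# The internal Hom of abelian sheaves: exactness

Site `(C, J)` with `C : Type (u+1)`, `Category.{u} C`.
* `injective_over`, exactness of restriction to `Over X`;
* `mono_homShMap_right`, `exact_homSh_right`: `𝓗om(F, -)` is left exact;
* `mono_homShMap_left`, `exact_homSh_left`: `𝓗om(-, G)` is left exact;
* `shortExact_homSh_injective`: `𝓗om(-, I)` is exact for `I` injective.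
-/

set_option autoImplicit false
universe u

open CategoryTheory CategoryTheory.Limits Opposite

namespace K453.HomShEx

open K453.SheafEx HomSh

variable {C : Type (u + 1)} [Category.{u} C] (J : GrothendieckTopology C)

theorem exactDiscrete (α : Type u) : HasExactColimitsOfShape (Discrete α) AddCommGrpCat.{u + 1} := by
  have : AB4OfSize.{u + 1} AddCommGrpCat.{u + 1} := AB4.of_AB5 _
  have : AB4OfSize.{u} AddCommGrpCat.{u + 1} := AB4OfSize_shrink.{u, u + 1} _
  infer_instance

/-- restriction to `Over X` preserves injectives -/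
theorem injective_over (X : C) (I : Sheaf J AddCommGrpCat.{u + 1}) [Injective I] : Injective (I.over X) := by
  have := exactDiscrete.{u}
  exact Groth.Agent.CohtopA.OverInj.injective_over _ I

section Over

variable {J} {S : ShortComplex (Sheaf J AddCommGrpCat.{u + 1})} (X : C)

theorem mono_over {F G : Sheaf J AddCommGrpCat.{u + 1}} (f : F ⟶ G) [Mono f] :
    Mono ((J.overPullback AddCommGrpCat.{u + 1} X).map f) :=
  (mono_iff_sections _).mpr fun U => mono_app f (op U.left)

theorem epi_over {F G : Sheaf J AddCommGrpCat.{u + 1}} (f : F ⟶ G) [Epi f] :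
    Epi ((J.overPullback AddCommGrpCat.{u + 1} X).map f) := by
  refine (epi_iff_locally _).mpr fun U s => ?_
  obtain ⟨R, hR, hR'⟩ := (epi_iff_locally f).mp inferInstance U.left s
  refine ⟨(Sieve.overEquiv U).symm R, J.overEquiv_symm_mem_over U R hR, fun V g hg => ?_⟩
  exact hR' g.left ((Sieve.overEquiv_symm_iff _ _).mp hg)

theorem exact_over (hS : S.Exact) : (S.map (J.overPullback AddCommGrpCat.{u + 1} X)).Exact := by
  refine (exact_iff_locally _).mpr fun U s hs => ?_
  obtain ⟨R, hR, hR'⟩ := (exact_iff_locally S).mp hS U.left s hs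
  refine ⟨(Sieve.overEquiv U).symm R, J.overEquiv_symm_mem_over U R hR, fun V g hg => ?_⟩
  exact hR' g.left ((Sieve.overEquiv_symm_iff _ _).mp hg)

theorem shortExact_over (hS : S.ShortExact) :
    (S.map (J.overPullback AddCommGrpCat.{u + 1} X)).ShortExact where
  exact := exact_over X hS.exact
  mono_f := by
    have := hS.mono_f
    exact mono_over X S.f
  epi_g := by
    have := hS.epi_g
    exact epi_over X S.g

end Over

section Right

variable {J}

theorem app_right {F G G' : Sheaf J AddCommGrpCat.{u + 1}} (β : G ⟶ G') (X : C) (φ : F.over X ⟶ G.over X) :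
    (homShMap J (𝟙 F) β).hom.app (op X) φ = φ ≫ (J.overPullback AddCommGrpCat.{u + 1} X).map β := by
  change (J.overPullback AddCommGrpCat.{u + 1} X).map (𝟙 F) ≫ φ ≫ (J.overPullback AddCommGrpCat.{u + 1} X).map β = _
  rw [CategoryTheory.Functor.map_id]
  exact Category.id_comp _

theorem app_left {F F' G : Sheaf J AddCommGrpCat.{u + 1}} (α : F' ⟶ F) (X : C) (φ : F.over X ⟶ G.over X) :
    (homShMap J α (𝟙 G)).hom.app (op X) φ = (J.overPullback AddCommGrpCat.{u + 1} X).map α ≫ φ := by
  change (J.overPullback AddCommGrpCat.{u + 1} X).map α ≫ φ ≫ (J.overPullback AddCommGrpCat.{u + 1} X).map (𝟙 G) = _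
  rw [CategoryTheory.Functor.map_id]
  exact congrArg _ (Category.comp_id _)

theorem mono_homShMap_right (F : Sheaf J AddCommGrpCat.{u + 1}) {G G' : Sheaf J AddCommGrpCat.{u + 1}}
    (β : G ⟶ G') [Mono β] : Mono (homShMap J (𝟙 F) β) := by
  refine (mono_iff_sections _).mpr fun X φ ψ h => ?_
  have := mono_over X β
  exact (cancel_mono ((J.overPullback AddCommGrpCat.{u + 1} X).map β)).mp
    ((app_right β X φ).symm.trans (h.trans (app_right β X ψ)))

theorem homShMap_zero_comp {F F' F'' G : Sheaf J AddCommGrpCat.{u + 1}} (α : F' ⟶ F) (α' : F'' ⟶ F')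
    (h : α' ≫ α = 0) : homShMap J α (𝟙 G) ≫ homShMap J α' (𝟙 G) = 0 := by
  rw [← homShMap_comp, h, Category.comp_id]
  apply Sheaf.hom_ext
  ext X φ
  exact (app_left (0 : F'' ⟶ F) X.unop φ).trans (by rw [Functor.map_zero]; exact zero_comp)

theorem homShMap_comp_zero {F G G' G'' : Sheaf J AddCommGrpCat.{u + 1}} (β : G ⟶ G') (β' : G' ⟶ G'')
    (h : β ≫ β' = 0) : homShMap J (𝟙 F) β ≫ homShMap J (𝟙 F) β' = 0 := by
  rw [← homShMap_comp, h, Category.comp_id]
  apply Sheaf.hom_ext
  ext X φ
  exact (app_right (0 : G ⟶ G'') X.unop φ).trans (by rw [Functor.map_zero]; exact comp_zero)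

/-- `𝓗om(F, -)` is left exact -/
theorem exact_homSh_right (F : Sheaf J AddCommGrpCat.{u + 1}) (S : ShortComplex (Sheaf J AddCommGrpCat.{u + 1}))
    (hS : S.Exact) [Mono S.f] :
    (ShortComplex.mk (homShMap J (𝟙 F) S.f) (homShMap J (𝟙 F) S.g) (homShMap_comp_zero _ _ S.zero)).Exact := by
  refine exact_of_sections _ fun X (φ : F.over X ⟶ S.X₂.over X) hφ => ?_
  have h1 := exact_over X hS
  have h2 : Mono (S.map (J.overPullback AddCommGrpCat.{u + 1} X)).f := mono_over X S.f
  have hφ' : φ ≫ (S.map (J.overPullback AddCommGrpCat.{u + 1} X)).g = 0 := (app_right S.g X φ).symm.trans hφ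
  obtain ⟨ψ, hψ⟩ := h1.lift' φ hφ'
  exact ⟨ψ, (app_right S.f X ψ).trans hψ⟩

/-- `𝓗om(-, G)` turns epimorphisms into monomorphisms -/
theorem mono_homShMap_left (G : Sheaf J AddCommGrpCat.{u + 1}) {F F' : Sheaf J AddCommGrpCat.{u + 1}}
    (α : F' ⟶ F) [Epi α] : Mono (homShMap J α (𝟙 G)) := by
  refine (mono_iff_sections _).mpr fun X φ ψ h => ?_
  have := epi_over X α
  exact (cancel_epi ((J.overPullback AddCommGrpCat.{u + 1} X).map α)).mp
    ((app_left α X φ).symm.trans (h.trans (app_left α X ψ)))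

/-- `𝓗om(-, G)` is left exact -/
theorem exact_homSh_left (G : Sheaf J AddCommGrpCat.{u + 1}) (S : ShortComplex (Sheaf J AddCommGrpCat.{u + 1}))
    (hS : S.Exact) [Epi S.g] :
    (ShortComplex.mk (homShMap J S.g (𝟙 G)) (homShMap J S.f (𝟙 G)) (homShMap_zero_comp _ _ S.zero)).Exact := by
  refine exact_of_sections _ fun X (φ : S.X₂.over X ⟶ G.over X) hφ => ?_
  have h1 := exact_over X hS
  have h2 : Epi (S.map (J.overPullback AddCommGrpCat.{u + 1} X)).g := epi_over X S.g
  have hφ' : (S.map (J.overPullback AddCommGrpCat.{u + 1} X)).f ≫ φ = 0 := (app_left S.f X φ).symm.trans hφ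
  obtain ⟨ψ, hψ⟩ := h1.desc' φ hφ'
  exact ⟨ψ, (app_left S.g X ψ).trans hψ⟩

/-- `𝓗om(-, I)` turns monomorphisms into epimorphisms, `I` injective -/
theorem epi_homShMap_left (G : Sheaf J AddCommGrpCat.{u + 1}) {F F' : Sheaf J AddCommGrpCat.{u + 1}} (α : F' ⟶ F)
    [Mono α] [Injective G] : Epi (homShMap J α (𝟙 G)) := by
  refine epi_of_sections _ fun X (φ : F'.over X ⟶ G.over X) => ?_
  have := mono_over X α
  have := injective_over J X G
  exact ⟨Injective.factorThru φ ((J.overPullback AddCommGrpCat.{u + 1} X).map α),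
    (app_left α X _).trans (Injective.comp_factorThru _ _)⟩

/-- `𝓗om(-, I)` is exact, `I` injective -/
theorem shortExact_homSh_injective (G : Sheaf J AddCommGrpCat.{u + 1})
    (S : ShortComplex (Sheaf J AddCommGrpCat.{u + 1})) (hS : S.ShortExact) [Injective G] :
    (ShortComplex.mk (homShMap J S.g (𝟙 G)) (homShMap J S.f (𝟙 G)) (homShMap_zero_comp _ _ S.zero)).ShortExact where
  exact := by
    have := hS.epi_g
    exact exact_homSh_left G S hS.exact
  mono_f := by
    have := hS.epi_g
    exact mono_homShMap_left G S.g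
  epi_g := by
    have := hS.mono_f
    exact epi_homShMap_left G S.f

/-- `𝓗om(F, -)` preserves finite limits -/
instance preservesFiniteLimits_homShFunctor (F : Sheaf J AddCommGrpCat.{u + 1}) :
    PreservesFiniteLimits (homShFunctor J F) := by
  have h := (Functor.preservesFiniteLimits_tfae (homShFunctor J F)).out 3 0
  refine h.mpr fun S hS => ⟨?_, ?_⟩
  · have := hS.mono_f
    exact exact_homSh_right F S hS.exact
  · have := hS.mono_f
    exact mono_homShMap_right F S.f

/-- the internal Hom is zero iff there are no non-zero morphisms over any object -/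
theorem isZero_homSh_iff (F G : Sheaf J AddCommGrpCat.{u + 1}) :
    IsZero (homSh J F G) ↔ ∀ (X : C) (φ : F.over X ⟶ G.over X), φ = 0 :=
  isZero_iff_sections _

end Right

end K453.HomShEx
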