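import Groth.Agent.AbSch.K453.ExtShLES

/-!
# Consequences of the vanishing of one term in the long exact sequences of `𝓔xt¹`
-/

set_option autoImplicit false
universe u
open CategoryTheory CategoryTheory.Limits

namespace K453.SemiAb

variable {C : Type (u + 1)} [Category.{u} C] (J : GrothendieckTopology C)
  [HasInjectiveResolutions (Sheaf J AddCommGrpCat.{u + 1})]

/-- if `𝓔xt¹(X₁, M) = 0`, then `𝓔xt¹(X₃, M) → 𝓔xt¹(X₂, M)` is an epimorphism -/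
theorem epi_ext (S : ShortComplex (Sheaf J AddCommGrpCat.{u + 1})) (hS : S.ShortExact)
    (M : Sheaf J AddCommGrpCat.{u + 1})
    (hz : IsZero ((HomSh.extSh J S.X₁ 1).obj M)) : Epi ((HomSh.extShMap J S.g 1).app M) := by
  have h1 : (HomSh.extShMap J S.f 1).app M = 0 := hz.eq_of_tgt _ _
  have h2 : Epi (ShortComplex.mk ((HomSh.extShMap J S.g 1).app M) ((HomSh.extShMap J S.f 1).app M)
    (ExtShLES.left_zero J 1 M)).f := (ExtShLES.left_exact₂ J 1 M hS).epi_f h1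
  exact h2

/-- if `𝓔xt¹(F, X₁) = 0`, then `𝓔xt¹(F, X₂) → 𝓔xt¹(F, X₃)` is a monomorphism -/
theorem mono_ext (S : ShortComplex (Sheaf J AddCommGrpCat.{u + 1})) (hS : S.ShortExact)
    (F : Sheaf J AddCommGrpCat.{u + 1})
    (hz : IsZero ((HomSh.extSh J F 1).obj S.X₁)) : Mono ((HomSh.extSh J F 1).map S.g) := by
  have h1 : (HomSh.extSh J F 1).map S.f = 0 := hz.eq_of_src _ _
  have h2 : Mono (ShortComplex.mk ((HomSh.extSh J F 1).map S.f) ((HomSh.extSh J F 1).map S.g)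
    (ExtShLES.right_zero J F 1)).g := (ExtShLES.right_exact₂ J F 1 hS).mono_g h1
  exact h2

/- `rfl` on terms of the form `(extShMap ..).app M` is very slow in the kernel (projections); use `congrArg`. -/

theorem extShMap_mk {X₁ X₂ X₃ : Sheaf J AddCommGrpCat.{u + 1}} (f : X₁ ⟶ X₂) (g : X₂ ⟶ X₃) (w : f ≫ g = 0) :
    HomSh.extShMap J (ShortComplex.mk f g w).g 1 = HomSh.extShMap J g 1 := rfl

/-- if `𝓔xt¹(X₁, M) = 0`, then `𝓔xt¹(X₃, M) → 𝓔xt¹(X₂, M)` is an epimorphism -/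
theorem epi_ext' {X₁ X₂ X₃ : Sheaf J AddCommGrpCat.{u + 1}} (f : X₁ ⟶ X₂) (g : X₂ ⟶ X₃) (w : f ≫ g = 0)
    (hS : (ShortComplex.mk f g w).ShortExact) (M : Sheaf J AddCommGrpCat.{u + 1})
    (hz : IsZero ((HomSh.extSh J X₁ 1).obj M)) : Epi ((HomSh.extShMap J g 1).app M) :=
  (congrArg (fun t => Epi (NatTrans.app t M)) (extShMap_mk J f g w)).mp (epi_ext J (ShortComplex.mk f g w) hS M hz)

/-- if `𝓔xt¹(F, X₁) = 0`, then `𝓔xt¹(F, X₂) → 𝓔xt¹(F, X₃)` is a monomorphism -/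
theorem mono_ext' {X₁ X₂ X₃ : Sheaf J AddCommGrpCat.{u + 1}} (f : X₁ ⟶ X₂) (g : X₂ ⟶ X₃) (w : f ≫ g = 0)
    (hS : (ShortComplex.mk f g w).ShortExact) (F : Sheaf J AddCommGrpCat.{u + 1})
    (hz : IsZero ((HomSh.extSh J F 1).obj X₁)) : Mono ((HomSh.extSh J F 1).map g) :=
  mono_ext J (ShortComplex.mk f g w) hS F hz

end K453.SemiAb
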